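import Groth.Agent.RDerLES
import Mathlib.Algebra.Homology.DerivedCategory.Basic
import Mathlib.Algebra.Homology.HomotopyCategory.MappingCone
import Mathlib.CategoryTheory.Abelian.Refinements
import Mathlib.Algebra.Homology.Embedding.CochainComplex
import Groth.Prelude.Def_RDer

/-!
# Complexes of acyclic objects for a left exact functor
-/

universe w v v' u u'

open CategoryTheory CategoryTheory.Limits HomologicalComplex

namespace Groth.Agent.CohDerLib.Acyclic

variable {A : Type u} [Category.{v} A] [Abelian A] [HasInjectiveResolutions A]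
  {B : Type u'} [Category.{v'} B] [Abelian B] (F : A ⥤ B) [F.Additive]

/-- right acyclicity -/
def Acy (X : A) : Prop := ∀ i : ℕ, 0 < i → IsZero ((F.rightDerived i).obj X)

variable {F}

lemma acy_of_iso {X Y : A} (e : X ≅ Y) (h : Acy F X) : Acy F Y :=
  fun i hi => (h i hi).of_iso ((F.rightDerived i).mapIso e).symm

lemma acy_of_injective (X : A) [Injective X] : Acy F X := fun i hi => by
  obtain ⟨n, rfl⟩ := Nat.exists_eq_add_of_le hi
  rw [Nat.succ_eq_add_one, Nat.zero_add, Nat.add_comm]
  exact Functor.isZero_rightDerived_obj_injective_succ F n X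

lemma acy_X₂ {S : ShortComplex A} (hS : S.ShortExact) (h1 : Acy F S.X₁) (h3 : Acy F S.X₃) :
    Acy F S.X₂ := fun i hi =>
  ((RDerLES.derivedLES F).exact₂ S hS i).isZero_X₂ ((h1 i hi).eq_of_src _ _)
    ((h3 i hi).eq_of_tgt _ _)

lemma acy_biprod {X Y : A} (hX : Acy F X) (hY : Acy F Y) : Acy F (X ⊞ Y) :=
  acy_X₂ (ShortComplex.Splitting.ofHasBinaryBiproduct X Y).shortExact hX hY

section LeftExact

variable [PreservesFiniteLimits F]

lemma map_mono_exact {S : ShortComplex A} (hS : S.ShortExact) :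
    (S.map F).Exact ∧ Mono (F.map S.f) :=
  (((Functor.preservesFiniteLimits_tfae F).out 3 0 :) |>.1 inferInstance) S hS

lemma epi_map_g {S : ShortComplex A} (hS : S.ShortExact)
    (h1 : IsZero ((F.rightDerived 1).obj S.X₁)) : Epi (F.map S.g) := by
  have : Epi ((F.rightDerived 0).map S.g) :=
    ((RDerLES.derivedLES F).exact₃ S hS 0 1 rfl).epi_f (h1.eq_of_tgt _ _)
  have e : F.map S.g = F.toRightDerivedZero.app S.X₂ ≫ (F.rightDerived 0).map S.g ≫
      inv (F.toRightDerivedZero.app S.X₃) := by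
    rw [← Category.assoc, IsIso.eq_comp_inv]
    exact F.toRightDerivedZero.naturality S.g
  rw [e]
  infer_instance

lemma shortExact_map {S : ShortComplex A} (hS : S.ShortExact)
    (h1 : IsZero ((F.rightDerived 1).obj S.X₁)) : (S.map F).ShortExact :=
  { exact := (map_mono_exact hS).1
    mono_f := (map_mono_exact hS).2
    epi_g := epi_map_g hS h1 }

variable (L : CochainComplex A ℤ)

/-- the short complex of cycles `Z^m ⟶ L^m ⟶ Z^{m+1}` -/
noncomputable def cyc (m : ℤ) : ShortComplex A :=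
  ShortComplex.mk (kernel.ι (L.d m (m + 1)))
    (kernel.lift (L.d (m + 1) (m + 1 + 1)) (L.d m (m + 1)) (L.d_comp_d _ _ _))
    (by rw [← cancel_mono (kernel.ι _)]; simp)

lemma cyc_shortExact (hL : L.Acyclic) (m : ℤ) : (cyc L m).ShortExact where
  exact := by
    rw [ShortComplex.exact_iff_exact_up_to_refinements]
    intro T x hx
    change T ⟶ L.X m at x
    have : x ≫ L.d m (m + 1) = 0 := by
      rw [← kernel.lift_ι (L.d (m + 1) (m + 1 + 1)) (L.d m (m + 1)) (L.d_comp_d _ _ _),
        ← Category.assoc]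
      exact (congrArg (· ≫ kernel.ι _) hx).trans zero_comp
    exact ⟨T, 𝟙 T, inferInstance, kernel.lift _ x this, by simp [cyc]⟩
  mono_f := inferInstanceAs (Mono (kernel.ι _))
  epi_g := by
    rw [epi_iff_surjective_up_to_refinements]
    intro T z
    change T ⟶ kernel (L.d (m + 1) (m + 1 + 1)) at z
    have hex : (L.sc' m (m + 1) (m + 1 + 1)).Exact :=
      (L.exactAt_iff' m (m + 1) (m + 1 + 1) (by simp) (by simp)).1 (hL _)
    obtain ⟨T', p, hp, y, hy⟩ := hex.exact_up_to_refinements
      (z ≫ kernel.ι (L.d (m + 1) (m + 1 + 1))) (by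
        show (z ≫ kernel.ι (L.d (m + 1) (m + 1 + 1))) ≫ L.d (m + 1) (m + 1 + 1) = 0
        rw [Category.assoc, kernel.condition]
        exact comp_zero)
    refine ⟨T', p, hp, y, ?_⟩
    apply (cancel_mono (kernel.ι (L.d (m + 1) (m + 1 + 1)))).1
    refine (Category.assoc _ _ _).trans (hy.trans ?_)
    refine Eq.trans ?_ (Category.assoc _ _ _).symm
    exact congrArg (y ≫ ·) (kernel.lift_ι _ _ _).symm

/-- the cycles -/
noncomputable def Z (j : ℤ) : A := kernel (L.d j (j + 1))

/-- vanishing needed to start the dimension shifting -/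
def Small : Prop :=
  ∀ m : ℤ, ∀ i : ℕ, 0 < i → ∃ k : ℕ,
    IsZero ((F.rightDerived (i + k)).obj (Z L (m - (k : ℤ))))

lemma small_of_isStrictlyGE (n : ℤ) [L.IsStrictlyGE n] : Small (F := F) L := fun m i _ => by
  refine ⟨(m - n + 1).toNat, Functor.map_isZero _ ?_⟩
  have h : IsZero (L.X (m - ((m - n + 1).toNat : ℤ))) :=
    L.isZero_of_isStrictlyGE n _ (by omega)
  exact (IsZero.iff_id_eq_zero _).2 ((cancel_mono (kernel.ι _)).1 (h.eq_of_tgt _ _))

omit [PreservesFiniteLimits F] in
lemma isZero_above (n : ℕ) (hn : ∀ X : A, IsZero ((F.rightDerived n).obj X)) :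
    ∀ i, n ≤ i → ∀ X : A, IsZero ((F.rightDerived i).obj X) := by
  intro i hi
  obtain ⟨k, rfl⟩ := Nat.exists_eq_add_of_le hi
  clear hi
  induction k with
  | zero => exact hn
  | succ k ih =>
    intro X
    obtain ⟨I⟩ := (inferInstance : HasInjectiveResolution X).out
    let ι : X ⟶ I.cocomplex.X 0 := I.ι.f 0
    have : Mono ι := _root_.RDer.res_mono I.cocomplex I.ι
    let S := ShortComplex.mk ι (cokernel.π ι) (cokernel.condition ι)
    have hS : S.ShortExact :=
      { exact := ShortComplex.exact_of_g_is_cokernel S (cokernelIsCokernel ι)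
        mono_f := inferInstanceAs (Mono ι)
        epi_g := inferInstanceAs (Epi (cokernel.π ι)) }
    have hJ := acy_of_injective (F := F) (I.cocomplex.X 0) (n + k + 1) (by omega)
    exact ((RDerLES.derivedLES F).exact₁ S hS (n + k) (n + k + 1) rfl).isZero_X₂
      ((ih _).eq_of_src _ _) (hJ.eq_of_tgt _ _)

lemma small_of_finite_dim (n : ℕ) (hn : ∀ X : A, IsZero ((F.rightDerived n).obj X)) :
    Small (F := F) L := fun _ i _ => ⟨n, isZero_above n hn (i + n) (by omega) _⟩

variable {L}

lemma acy_cycles (hL : L.Acyclic) (hT : ∀ m, Acy F (L.X m)) (hs : Small (F := F) L) (m : ℤ) :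
    Acy F (Z L m) := by
  intro i hi
  obtain ⟨k, hk⟩ := hs m i hi
  clear hs
  induction k generalizing i m with
  | zero => rwa [Nat.cast_zero, sub_zero, add_zero] at hk
  | succ k ih =>
    have h1 : IsZero ((F.rightDerived (i + 1)).obj (Z L (m - 1))) := by
      refine ih (m - 1) (i + 1) (by omega) ?_
      have e : m - ((k + 1 : ℕ) : ℤ) = m - 1 - (k : ℤ) := by omega
      rw [e] at hk
      rwa [show i + 1 + k = i + (k + 1) by omega]
    have h2 := ((RDerLES.derivedLES F).exact₃ (cyc L (m - 1)) (cyc_shortExact L hL (m - 1))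
      i (i + 1) rfl).isZero_X₂ ((hT (m - 1) i hi).eq_of_src _ _) (h1.eq_of_tgt _ _)
    have h2' : IsZero ((F.rightDerived i).obj (Z L (m - 1 + 1))) := h2
    rwa [sub_add_cancel] at h2'

theorem acyclic_map (hL : L.Acyclic) (hT : ∀ m, Acy F (L.X m)) (hs : Small (F := F) L) :
    ((F.mapHomologicalComplex (ComplexShape.up ℤ)).obj L).Acyclic := by
  intro n
  obtain ⟨m, rfl⟩ : ∃ m, n = m + 1 := ⟨n - 1, by omega⟩
  rw [exactAt_iff' _ m (m + 1) (m + 1 + 1) (by simp) (by simp),
    ShortComplex.exact_iff_exact_up_to_refinements]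
  intro T x hx
  change T ⟶ F.obj (L.X (m + 1)) at x
  change x ≫ F.map (L.d (m + 1) (m + 1 + 1)) = 0 at hx
  let g : ∀ j, L.X j ⟶ Z L (j + 1) := fun j => (cyc L j).g
  let ι : ∀ j, Z L j ⟶ L.X j := fun j => kernel.ι (L.d j (j + 1))
  have hgι : ∀ j, F.map (g j) ≫ F.map (ι (j + 1)) = F.map (L.d j (j + 1)) := fun j => by
    rw [← F.map_comp]; exact congrArg F.map (kernel.lift_ι _ _ _)
  obtain ⟨hex, hmono⟩ := map_mono_exact (F := F) (cyc_shortExact L hL (m + 1))
  have hm2 : Mono (F.map (ι (m + 1 + 1))) :=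
    (map_mono_exact (F := F) (cyc_shortExact L hL (m + 1 + 1))).2
  have hx' : x ≫ F.map (g (m + 1)) = 0 := by
    rw [← cancel_mono (F.map (ι (m + 1 + 1))), zero_comp, Category.assoc, hgι, hx]
  obtain ⟨T', p, hp, y, hy⟩ := hex.exact_up_to_refinements x hx'
  change T' ⟶ F.obj (Z L (m + 1)) at y
  change p ≫ x = y ≫ F.map (ι (m + 1)) at hy
  have : Epi (F.map (g m)) :=
    epi_map_g (F := F) (cyc_shortExact L hL m) (acy_cycles hL hT hs m 1 Nat.one_pos)
  obtain ⟨T'', q, hq, w, hw⟩ := surjective_up_to_refinements_of_epi (F.map (g m)) y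
  refine ⟨T'', q ≫ p, inferInstance, w, ?_⟩
  show (q ≫ p) ≫ x = w ≫ F.map (L.d m (m + 1))
  rw [Category.assoc, hy, ← Category.assoc, hw, Category.assoc, hgι]

variable (F) in
/-- `F` preserves quasi-isomorphisms between complexes of acyclic objects. -/
theorem quasiIso_map {K L : CochainComplex A ℤ} (f : K ⟶ L) [QuasiIso f]
    (hK : ∀ m, Acy F (K.X m)) (hL : ∀ m, Acy F (L.X m))
    (hs : Small (F := F) (CochainComplex.mappingCone f)) :
    HomotopyCategory.quasiIso B (ComplexShape.up ℤ)
      ((F.mapHomotopyCategory (ComplexShape.up ℤ)).map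
        ((HomotopyCategory.quotient A (ComplexShape.up ℤ)).map f)) := by
  have hd := HomotopyCategory.mappingCone_triangleh_distinguished f
  have hmem : HomotopyCategory.quasiIso A (ComplexShape.up ℤ)
      ((HomotopyCategory.quotient A (ComplexShape.up ℤ)).map f) :=
    (HomotopyCategory.quotient_map_mem_quasiIso_iff f).2 (by
      rw [HomologicalComplex.mem_quasiIso_iff]; infer_instance)
  rw [HomotopyCategory.quasiIso_eq_trW_subcategoryAcyclic] at hmem ⊢
  have hc : (CochainComplex.mappingCone f).Acyclic :=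
    (HomotopyCategory.quotient_obj_mem_subcategoryAcyclic_iff_acyclic _).1
      ((ObjectProperty.trW_iff_of_distinguished _ _ hd).1 hmem)
  have hT : ∀ m, Acy F ((CochainComplex.mappingCone f).X m) := fun m =>
    acy_of_iso (homotopyCofiber.XIsoBiprod f m (m + 1) rfl).symm (acy_biprod (hK _) (hL _))
  have hd' := (F.mapHomotopyCategory (ComplexShape.up ℤ)).map_distinguished _ hd
  refine (ObjectProperty.trW_iff_of_distinguished _ _ hd').2 ?_
  exact (HomotopyCategory.quotient_obj_mem_subcategoryAcyclic_iff_acyclic _).2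
    (acyclic_map hc hT hs)

end LeftExact

end Groth.Agent.CohDerLib.Acyclic
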