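import Mathlib.CategoryTheory.Functor.Derived.PointwiseRightDerived
import Mathlib.CategoryTheory.Localization.CalculusOfFractions

/-!
# Right derived functors from enough objects on which the functor inverts weak equivalences
-/

universe v₁ v₂ v₃ u₁ u₂ u₃

open CategoryTheory CategoryTheory.Limits

namespace Groth.Agent.CohDerLib.Deligne

variable {C : Type u₁} {D : Type u₂} {H : Type u₃} [Category.{v₁} C] [Category.{v₂} D]
  [Category.{v₃} H]

/-- enough objects on which `F` inverts weak equivalences -/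
structure Data (L : C ⥤ D) (F : C ⥤ H) where
  /-- the good objects -/
  P : ObjectProperty C
  res : ∀ X : C, ∃ (Y : C) (s : X ⟶ Y), P Y ∧ IsIso (L.map s)
  inv : ∀ ⦃X Y : C⦄ (s : X ⟶ Y), P X → P Y → IsIso (L.map s) → IsIso (F.map s)

variable {L : C ⥤ D} {F : C ⥤ H} (δ : Data L F) (W : MorphismProperty C) [L.IsLocalization W]
  [W.HasLeftCalculusOfFractions]

include W in
lemma Data.exists_frac {X Y : C} (φ : L.obj X ⟶ L.obj Y) :
    ∃ (Z : C) (t : Y ⟶ Z) (a : X ⟶ Z),
      δ.P Z ∧ IsIso (L.map t) ∧ L.map a = φ ≫ L.map t := by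
  obtain ⟨ψ, hψ⟩ := Localization.exists_leftFraction L W φ
  obtain ⟨Z, u, hZ, hu⟩ := δ.res ψ.Y'
  have := Localization.inverts L W ψ.s ψ.hs
  refine ⟨Z, ψ.s ≫ u, ψ.f ≫ u, hZ, ?_, ?_⟩
  · rw [L.map_comp]; infer_instance
  · rw [L.map_comp, L.map_comp, hψ, MorphismProperty.LeftFraction.map_comp_map_s_assoc]

include δ W in
lemma Data.map_eq {X Y : C} (hY : δ.P Y) (g g' : X ⟶ Y) (h : L.map g = L.map g') :
    F.map g = F.map g' := by
  rw [MorphismProperty.map_eq_iff_postcomp L W] at h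
  obtain ⟨Z, s, hs, e⟩ := h
  obtain ⟨Z', u, hZ', hu⟩ := δ.res Z
  have := Localization.inverts L W s hs
  have : IsIso (F.map (s ≫ u)) := δ.inv _ hY hZ' (by rw [L.map_comp]; infer_instance)
  rw [← cancel_mono (F.map (s ≫ u)), ← F.map_comp, ← F.map_comp, reassoc_of% e]

variable {P₀ : C} (hP : δ.P P₀)

/-- evaluation of a roof -/
noncomputable def Data.ev {X : C} (φ : L.obj X ⟶ L.obj P₀) : F.obj X ⟶ F.obj P₀ :=
  haveI := δ.inv (δ.exists_frac W φ).choose_spec.choose hP
    (δ.exists_frac W φ).choose_spec.choose_spec.choose_spec.1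
    (δ.exists_frac W φ).choose_spec.choose_spec.choose_spec.2.1
  F.map (δ.exists_frac W φ).choose_spec.choose_spec.choose ≫
    CategoryTheory.inv (F.map (δ.exists_frac W φ).choose_spec.choose)

lemma Data.ev_spec {X Y : C} (φ : L.obj X ⟶ L.obj P₀) (t : P₀ ⟶ Y) (a : X ⟶ Y) (hY : δ.P Y)
    (ht : IsIso (L.map t)) (e : L.map a = φ ≫ L.map t) :
    F.map a = δ.ev W hP φ ≫ F.map t := by
  let Z := (δ.exists_frac W φ).choose
  let s : P₀ ⟶ Z := (δ.exists_frac W φ).choose_spec.choose
  let c : X ⟶ Z := (δ.exists_frac W φ).choose_spec.choose_spec.choose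
  obtain ⟨hZ, hsi, ec⟩ : δ.P Z ∧ IsIso (L.map s) ∧ L.map c = φ ≫ L.map s :=
    (δ.exists_frac W φ).choose_spec.choose_spec.choose_spec
  have : IsIso (L.map s) := hsi
  obtain ⟨Y', r, b, hY', hr, eb⟩ :=
    δ.exists_frac W (CategoryTheory.inv (L.map s) ≫ L.map t)
  have hb : IsIso (L.map b) := by rw [eb]; infer_instance
  have := δ.inv r hY hY' hr
  have := δ.inv b hZ hY' hb
  have := δ.inv s hP hZ hsi
  have e1 : F.map (c ≫ b) = F.map (a ≫ r) := δ.map_eq W hY' _ _ (by
    rw [L.map_comp, L.map_comp, ec, e, eb]; simp)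
  have e2 : F.map (s ≫ b) = F.map (t ≫ r) := δ.map_eq W hY' _ _ (by
    rw [L.map_comp, L.map_comp, eb]; simp)
  rw [F.map_comp, F.map_comp] at e1 e2
  show F.map a = (F.map c ≫ CategoryTheory.inv (F.map s)) ≫ F.map t
  rw [← cancel_mono (F.map r), ← e1]
  simp [← e2]

variable {d : D} (e : L.obj P₀ ≅ d)

/-- the colimit cocone -/
noncomputable def Data.cocone : Cocone (CostructuredArrow.proj L d ⋙ F) where
  pt := F.obj P₀
  ι :=
    { app := fun j => δ.ev W hP (j.hom ≫ e.inv)
      naturality := fun j j' g => by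
        obtain ⟨Z, t, a, hZ, ht, ea⟩ := δ.exists_frac W (j'.hom ≫ e.inv)
        have h1 := δ.ev_spec W hP _ t a hZ ht ea
        have h2 := δ.ev_spec W hP (j.hom ≫ e.inv) t (g.left ≫ a) hZ ht (by
          rw [L.map_comp, ea, ← CostructuredArrow.w g]; simp)
        have := δ.inv t hP hZ ht
        change F.map g.left ≫ δ.ev W hP (j'.hom ≫ e.inv) = δ.ev W hP (j.hom ≫ e.inv) ≫ 𝟙 _
        rw [Category.comp_id, ← cancel_mono (F.map t), Category.assoc, ← h1, ← h2, F.map_comp] }

/-- it is a colimit -/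
noncomputable def Data.isColimit : IsColimit (δ.cocone W hP e) where
  desc s := s.ι.app (CostructuredArrow.mk e.hom)
  fac s j := by
    obtain ⟨Z, t, a, hZ, ht, ea⟩ := δ.exists_frac W (j.hom ≫ e.inv)
    have := δ.inv t hP hZ ht
    let jZ : CostructuredArrow L d := CostructuredArrow.mk (CategoryTheory.inv (L.map t) ≫ e.hom)
    have w1 := s.w (CostructuredArrow.homMk (f := j) (f' := jZ) a (by simp [jZ, ea]))
    have w2 := s.w (CostructuredArrow.homMk (f := CostructuredArrow.mk e.hom) (f' := jZ) t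
      (by simp [jZ]))
    have w1' : F.map a ≫ s.ι.app jZ = s.ι.app j := w1
    have w2' : F.map t ≫ s.ι.app jZ = s.ι.app (CostructuredArrow.mk e.hom) := w2
    show δ.ev W hP (j.hom ≫ e.inv) ≫ s.ι.app (CostructuredArrow.mk e.hom) = s.ι.app j
    rw [← w1', ← w2', δ.ev_spec W hP _ t a hZ ht ea]
    exact (Category.assoc _ _ _).symm
  uniq s m hm := by
    have h := hm (CostructuredArrow.mk e.hom)
    have h1 := δ.ev_spec W hP ((CostructuredArrow.mk e.hom).hom ≫ e.inv) (𝟙 P₀) (𝟙 P₀) hP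
      (by rw [L.map_id]; infer_instance) (by simp)
    rw [F.map_id, Category.comp_id] at h1
    refine Eq.trans ?_ h
    exact (Category.id_comp m).symm.trans (congrArg (· ≫ m) (h1.symm.trans (F.map_id P₀)).symm)

include δ W in
lemma Data.hasPointwise : L.HasPointwiseLeftKanExtension F := fun d => by
  have := Localization.essSurj L W
  obtain ⟨P, s, hP, hs⟩ := δ.res (L.objPreimage d)
  exact ⟨⟨_, δ.isColimit W hP ((asIso (L.map s)).symm ≪≫ L.objObjPreimageIso d)⟩⟩

include δ in
theorem Data.hasRightDerivedFunctor : F.HasRightDerivedFunctor W := by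
  have := δ.hasPointwise W
  rw [Functor.hasRightDerivedFunctor_iff F L W]
  infer_instance

include δ W hP in
/-- the unit is invertible at good objects -/
theorem Data.isIso_app (RF : D ⥤ H) (α : F ⟶ L ⋙ RF) [RF.IsRightDerivedFunctor α W] :
    IsIso (α.app P₀) := by
  have := δ.hasPointwise W
  have := Functor.IsRightDerivedFunctor.isLeftKanExtension RF α W
  have hcolim : IsColimit ((Functor.LeftExtension.mk RF α).coconeAt (L.obj P₀)) :=
    Functor.isPointwiseLeftKanExtensionOfIsLeftKanExtension RF α (L.obj P₀)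
  let j : CostructuredArrow L (L.obj P₀) := CostructuredArrow.mk (𝟙 (L.obj P₀))
  have h1 : ((Functor.LeftExtension.mk RF α).coconeAt (L.obj P₀)).ι.app j = α.app P₀ := by
    change α.app P₀ ≫ RF.map (𝟙 (L.obj P₀)) = _
    rw [RF.map_id]
    exact Category.comp_id _
  have h2 := IsColimit.comp_coconePointUniqueUpToIso_hom
    (δ.isColimit W hP (Iso.refl (L.obj P₀))) hcolim j
  have h3 := δ.ev_spec W hP (j.hom ≫ (Iso.refl (L.obj P₀)).inv) (𝟙 P₀) (𝟙 P₀) hP
    (by rw [L.map_id]; infer_instance) (by simp [j])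
  rw [F.map_id, Category.comp_id] at h3
  rw [h1, show (δ.cocone W hP (Iso.refl (L.obj P₀))).ι.app j = 𝟙 (F.obj P₀) from h3.symm.trans (F.map_id P₀)] at h2
  have h4 : ((δ.isColimit W hP (Iso.refl _)).coconePointUniqueUpToIso hcolim).hom = α.app P₀ :=
    (Category.id_comp _).symm.trans h2
  rw [← h4]
  exact ⟨_, ((δ.isColimit W hP (Iso.refl _)).coconePointUniqueUpToIso hcolim).hom_inv_id,
    ((δ.isColimit W hP (Iso.refl _)).coconePointUniqueUpToIso hcolim).inv_hom_id⟩

end Groth.Agent.CohDerLib.Deligne
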