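import Mathlib.Algebra.Homology.Double
import Mathlib.Algebra.Homology.HomologicalComplexLimits
import Mathlib.Algebra.Homology.HomologySequenceLemmas
import Mathlib.Algebra.Homology.ShortComplex.HomologicalComplex
import Mathlib.Algebra.Homology.HomologicalComplexAbelian
import Mathlib.CategoryTheory.Limits.Constructions.EventuallyConstant
import Mathlib.CategoryTheory.Functor.OfSequence
import Mathlib.Algebra.Homology.QuasiIso
import Mathlib.Algebra.Homology.HomotopyCategory.HomComplex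
import Mathlib.Data.ENat.Basic

/-!
# Replacing a complex by a quasi-isomorphic complex of objects of dimension zero
-/

universe v u

open CategoryTheory CategoryTheory.Limits HomologicalComplex

namespace Groth.Agent.CohDerLib.DimShiftRes

variable {A : Type u} [Category.{v} A] [Abelian A]

/-- A sequence of quasi-isomorphisms which is eventually constant in each degree has a limit. -/
theorem exists_eventual (S : ℕ → CochainComplex A ℤ) (φ : ∀ k, S k ⟶ S (k + 1))
    (hq : ∀ k, QuasiIso (φ k)) (hev : ∀ n : ℤ, ∃ k₀, ∀ k, k₀ ≤ k → IsIso ((φ k).f n)) :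
    ∃ (L : CochainComplex A ℤ) (c : ∀ k, S k ⟶ L), QuasiIso (c 0) ∧
      ∀ (n : ℤ) (k : ℕ), (∀ j, k ≤ j → IsIso ((φ j).f n)) → IsIso ((c k).f n) := by
  let F : ℕ ⥤ CochainComplex A ℤ := Functor.ofSequence φ
  let ev := fun n : ℤ => HomologicalComplex.eval A (ComplexShape.up ℤ) n
  have hF : ∀ (n : ℤ) (k : ℕ), (∀ j, k ≤ j → IsIso ((φ j).f n)) →
      (F ⋙ ev n).IsEventuallyConstantFrom k := by
    intro n k hk j f
    have hle := leOfHom f
    have : ∀ d (h : k ≤ k + d), IsIso ((F ⋙ ev n).map (homOfLE h)) := by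
      intro d
      induction d with
      | zero => intro h; rw [show homOfLE h = 𝟙 k from rfl, CategoryTheory.Functor.map_id]; infer_instance
      | succ d ih =>
        intro h
        rw [show homOfLE h = homOfLE (Nat.le_add_right k d) ≫
          homOfLE (Nat.le_succ (k + d)) from rfl, Functor.map_comp]
        have h1 := ih (Nat.le_add_right k d)
        have h2 : IsIso ((F ⋙ ev n).map (homOfLE (Nat.le_succ (k + d)))) := by
          have e : F.map (homOfLE (Nat.le_succ (k + d))) = φ (k + d) :=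
            Functor.ofSequence_map_homOfLE_succ φ (k + d)
          show IsIso ((F.map (homOfLE (Nat.le_succ (k + d)))).f n)
          rw [e]
          exact hk _ (Nat.le_add_right k d)
        infer_instance
    obtain ⟨d, rfl⟩ := Nat.exists_eq_add_of_le hle
    exact this d hle
  have hcol : ∀ n, HasColimit (F ⋙ ev n) := fun n => by
    obtain ⟨k₀, hk₀⟩ := hev n
    exact (hF n k₀ hk₀).hasColimit
  have : HasColimit F := inferInstance
  have hiso : ∀ (n : ℤ) (k : ℕ), (∀ j, k ≤ j → IsIso ((φ j).f n)) →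
      IsIso ((colimit.ι F k).f n) := fun n k hk =>
    (hF n k hk).isIso_ι_of_isColimit (isColimitOfPreserves (ev n) (colimit.isColimit F))
  refine ⟨colimit F, fun k => colimit.ι F k, ⟨fun i => ?_⟩, hiso⟩
  obtain ⟨a, ha⟩ := hev (i - 1)
  obtain ⟨b, hb⟩ := hev i
  obtain ⟨c, hc⟩ := hev (i + 1)
  let k := max a (max b c)
  have h0 : colimit.ι F 0 = F.map (homOfLE (Nat.zero_le k)) ≫ colimit.ι F k :=
    (colimit.w F _).symm
  have hqk : ∀ k, QuasiIso (F.map (homOfLE (Nat.zero_le k))) := by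
    intro k
    induction k with
    | zero => rw [show homOfLE (Nat.zero_le 0) = 𝟙 0 from rfl, CategoryTheory.Functor.map_id]; infer_instance
    | succ k ih =>
      rw [show homOfLE (Nat.zero_le (k + 1)) = homOfLE (Nat.zero_le k) ≫ homOfLE (Nat.le_succ k)
        from rfl, Functor.map_comp, show F.map (homOfLE (Nat.le_succ k)) = φ k from
        Functor.ofSequence_map_homOfLE_succ φ k]
      exact @quasiIso_comp _ _ _ _ _ _ _ _ (F.map (homOfLE (Nat.zero_le k))) (φ k) _ _ _ ih (hq k)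
  have hat : QuasiIsoAt (colimit.ι F k) i := by
    rw [quasiIsoAt_iff' _ (i - 1) i (i + 1) (by simp) (by simp)]
    have i1 : IsIso ((colimit.ι F k).f (i - 1)) :=
      hiso _ _ fun j hj => ha j (le_trans (le_max_left _ _) hj)
    have i2 : IsIso ((colimit.ι F k).f i) :=
      hiso _ _ fun j hj => hb j (le_trans ((le_max_left _ _).trans (le_max_right _ _)) hj)
    have i3 : IsIso ((colimit.ι F k).f (i + 1)) :=
      hiso _ _ fun j hj => hc j (le_trans ((le_max_right _ _).trans (le_max_right _ _)) hj)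
    let ψ := (shortComplexFunctor' A (ComplexShape.up ℤ) (i - 1) i (i + 1)).map (colimit.ι F k)
    have : Epi ψ.τ₁ := (inferInstance : Epi ((colimit.ι F k).f (i - 1)))
    have : IsIso ψ.τ₂ := i2
    have : Mono ψ.τ₃ := (inferInstance : Mono ((colimit.ι F k).f (i + 1)))
    refine ShortComplex.quasiIso_of_epi_of_isIso_of_mono
      ((shortComplexFunctor' A (ComplexShape.up ℤ) (i - 1) i (i + 1)).map (colimit.ι F k))
  have := hqk k
  have h1 : QuasiIsoAt (F.map (homOfLE (Nat.zero_le k))) i := inferInstance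
  show QuasiIsoAt (colimit.ι F 0) i
  rw [h0]
  infer_instance

variable (d : A → ℕ∞) (hiso : ∀ ⦃X Y : A⦄, Nonempty (X ≅ Y) → d X = d Y)
  (h1 : ∀ X : A, ∃ (Y : A) (ι : X ⟶ Y), Mono ι ∧ d Y = 0)
  (h2 : ∀ X Y : A, d (X ⊞ Y) ≤ max (d X) (d Y))
  (h3 : ∀ S : ShortComplex A, S.ShortExact → d S.X₃ ≤ max (d S.X₁ - 1) (d S.X₂))

include hiso h1 h2 h3 in
/-- Killing the dimension in degree `n` at the expense of degree `n + 1`. -/
theorem exists_step (K : CochainComplex A ℤ) (n : ℤ) :
    ∃ (K' : CochainComplex A ℤ) (φ : K ⟶ K'), QuasiIso φ ∧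
      (∀ m, m ≠ n → m ≠ n + 1 → IsIso (φ.f m)) ∧ d (K'.X n) = 0 ∧
      d (K'.X (n + 1)) ≤ max (d (K.X n) - 1) (d (K.X (n + 1))) ∧
      (d (K.X n) = 0 → ∀ m, IsIso (φ.f m)) := by
  by_cases h0 : d (K.X n) = 0
  · exact ⟨K, 𝟙 K, inferInstance, fun m _ _ => inferInstance, h0, le_max_right _ _,
      fun _ m => inferInstance⟩
  obtain ⟨J, ι, hι, hJ⟩ := h1 (K.X n)
  have hr : (ComplexShape.up ℤ).Rel n (n + 1) := rfl
  have hne : n ≠ n + 1 := by omega
  let DX : CochainComplex A ℤ := double (𝟙 (K.X n)) hr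
  let DJ : CochainComplex A ℤ := double (𝟙 J) hr
  let a : DX ⟶ DJ := mkHomFromDouble hr hne (ι ≫ (doubleXIso₀ (𝟙 J) hr).inv)
    (ι ≫ (doubleXIso₁ (𝟙 J) hr hne).inv)
    (by rw [double_d _ _ hne]; simp)
    (fun k _ => by rw [double_d_eq_zero₀ _ _ _ _ hne.symm, comp_zero])
  let b : DX ⟶ K := mkHomFromDouble hr hne (𝟙 _) (K.d n (n + 1)) (by simp) (fun k _ => by simp)
  let g : DX ⟶ DJ ⊞ K := biprod.lift a (-b)
  have hzero : ∀ (X : A) (m : ℤ), m ≠ n → m ≠ n + 1 → IsZero ((double (𝟙 X) hr).X m) :=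
    fun X m hm hm' => isZero_double_X _ _ m hm hm'
  have hma : ∀ m, Mono (a.f m) := by
    intro m
    by_cases hm : m = n
    · subst hm; simp only [a, mkHomFromDouble_f₀]; infer_instance
    by_cases hm' : m = n + 1
    · subst hm'; simp only [a, mkHomFromDouble_f₁]; infer_instance
    exact ⟨fun u v _ => (hzero _ m hm hm').eq_of_tgt u v⟩
  have : Mono a := HomologicalComplex.mono_of_mono_f _ hma
  have hg : Mono g := mono_of_mono_fac (biprod.lift_fst a (-b))
  let S := ShortComplex.mk g (cokernel.π g) (cokernel.condition g)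
  have hS : S.ShortExact :=
    { exact := ShortComplex.exact_of_g_is_cokernel S (cokernelIsCokernel g)
      mono_f := hg
      epi_g := inferInstanceAs (Epi (cokernel.π g)) }
  let φ : K ⟶ cokernel g := biprod.inr ≫ cokernel.π g
  have hSm : ∀ m, (S.map (eval A (ComplexShape.up ℤ) m)).ShortExact := fun m =>
    hS.map_of_exact _
  have : ∀ m, PreservesBinaryBiproducts (HomologicalComplex.eval A (ComplexShape.up ℤ) m) :=
    fun m => preservesBinaryBiproducts_of_preservesBiproducts _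
  let e : ∀ m, (DJ ⊞ K).X m ≅ DJ.X m ⊞ K.X m := fun m =>
    (HomologicalComplex.eval A (ComplexShape.up ℤ) m).mapBiprod DJ K
  have hout : ∀ m, m ≠ n → m ≠ n + 1 → IsIso (φ.f m) := by
    intro m hm hm'
    have hS' := hSm m
    have : IsIso ((cokernel.π g).f m) := hS'.isIso_g_iff.2 (hzero _ m hm hm')
    have : IsIso ((biprod.inr : K ⟶ DJ ⊞ K).f m) :=
      ⟨(biprod.snd : DJ ⊞ K ⟶ K).f m, by rw [← HomologicalComplex.comp_f, biprod.inr_snd]; rfl, by
        have h := congr_arg (fun ψ => ψ.f m) (biprod.total (X := DJ) (Y := K))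
        simp only [HomologicalComplex.add_f_apply, HomologicalComplex.comp_f,
          HomologicalComplex.id_f] at h
        rw [(hzero J m hm hm').eq_of_tgt ((biprod.fst : DJ ⊞ K ⟶ DJ).f m) 0, zero_comp,
          zero_add] at h
        exact h⟩
    show IsIso ((biprod.inr : K ⟶ DJ ⊞ K).f m ≫ (cokernel.π g).f m)
    infer_instance
  have hacyc : ∀ (X : A) i, IsZero ((double (𝟙 X) hr).homology i) := by
    intro X i
    rw [← exactAt_iff_isZero_homology, exactAt_iff' _ (i - 1) i (i + 1) (by simp) (by simp)]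
    by_cases hi : i = n
    · subst hi
      rw [ShortComplex.exact_iff_mono _ (double_d_eq_zero₁ (𝟙 X) hr (i - 1) i (by omega))]
      show Mono ((double (𝟙 X) hr).d i (i + 1))
      rw [double_d _ _ hne]; infer_instance
    by_cases hi' : i = n + 1
    · subst hi'
      rw [ShortComplex.exact_iff_epi _ (double_d_eq_zero₀ (𝟙 X) hr (n + 1) (n + 1 + 1) (by omega))]
      show Epi ((double (𝟙 X) hr).d (n + 1 - 1) (n + 1))
      rw [show n + 1 - 1 = n by omega, double_d _ _ hne]; infer_instance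
    exact ShortComplex.exact_of_isZero_X₂ _ (hzero X i hi hi')
  refine ⟨cokernel g, φ, ⟨fun i => ?_⟩, hout, ?_, ?_, fun h => absurd h h0⟩
  · rw [quasiIsoAt_iff_isIso_homologyMap]
    have m1 : IsIso (homologyMap S.g i) := by
      have : Mono (homologyMap S.g i) :=
        (hS.homology_exact₂ i).mono_g ((hacyc _ i).eq_of_src _ _)
      have : Epi (homologyMap S.g i) :=
        (hS.homology_exact₃ i (i + 1) rfl).epi_f ((hacyc _ (i + 1)).eq_of_tgt _ _)
      exact isIso_of_mono_of_epi _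
    have m2 : IsIso (homologyMap (biprod.inr : K ⟶ DJ ⊞ K) i) := by
      refine ⟨homologyMap (biprod.snd : DJ ⊞ K ⟶ K) i, ?_, ?_⟩
      · rw [← homologyMap_comp, biprod.inr_snd, homologyMap_id]
      · have h := congr_arg (fun ψ => homologyMap ψ i) (biprod.total (X := DJ) (Y := K))
        simp only [homologyMap_add, homologyMap_id, homologyMap_comp] at h
        rw [(hacyc J i).eq_of_tgt (homologyMap (biprod.fst : DJ ⊞ K ⟶ DJ) i) 0, zero_comp,
          zero_add] at h
        exact h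
    rw [homologyMap_comp]
    exact IsIso.comp_isIso' m2 m1
  · -- in degree `n` one gets `J`
    have he1 : (e n).hom ≫ biprod.fst = (biprod.fst : DJ ⊞ K ⟶ DJ).f n := biprod.lift_fst _ _
    have he2 : (e n).hom ≫ biprod.snd = (biprod.snd : DJ ⊞ K ⟶ K).f n := biprod.lift_snd _ _
    have hgn : g.f n ≫ (e n).hom =
        biprod.lift ((doubleXIso₀ _ hr).hom ≫ ι ≫ (doubleXIso₀ (𝟙 J) hr).inv)
          (-(doubleXIso₀ _ hr).hom) := by
      apply biprod.hom_ext
      · rw [Category.assoc, he1, ← HomologicalComplex.comp_f, biprod.lift_fst, biprod.lift_fst,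
          mkHomFromDouble_f₀]
      · rw [Category.assoc, he2, ← HomologicalComplex.comp_f, biprod.lift_snd, biprod.lift_snd,
          HomologicalComplex.neg_f_apply, mkHomFromDouble_f₀, Category.comp_id]
    let u : DJ.X n ⟶ (cokernel g).X n := biprod.inl ≫ (e n).inv ≫ (cokernel.π g).f n
    have : IsIso u := by
      have hS' := hSm n
      let r : (DJ ⊞ K).X n ⟶ DJ.X n :=
        (e n).hom ≫ biprod.desc (𝟙 _) (ι ≫ (doubleXIso₀ (𝟙 J) hr).inv)
      have hr0 : g.f n ≫ r = 0 := by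
        rw [← Category.assoc, hgn, biprod.lift_desc, Category.comp_id, Preadditive.neg_comp,
          ← sub_eq_add_neg, sub_self]
      obtain ⟨r', hr'⟩ := CokernelCofork.IsColimit.desc' hS'.gIsCokernel r hr0
      change (cokernel.π g).f n ≫ r' = r at hr'
      refine ⟨r', ?_, ?_⟩
      · simp [u, hr', r]
      · have := hS'.epi_g
        change Epi ((cokernel.π g).f n) at this
        rw [← cancel_epi ((cokernel.π g).f n), ← Category.assoc, hr', Category.comp_id]
        have hz : g.f n ≫ (cokernel.π g).f n = 0 := (S.map (eval A (ComplexShape.up ℤ) n)).zero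
        rw [← cancel_epi (e n).inv]
        apply biprod.hom_ext'
        · simp [r, u]
        · have key : biprod.inr = biprod.lift (ι ≫ (doubleXIso₀ (𝟙 J) hr).inv) 0 -
              (doubleXIso₀ (𝟙 (K.X n)) hr).inv ≫ (g.f n ≫ (e n).hom) := by
            rw [hgn]; apply biprod.hom_ext <;> simp
          have hl : biprod.lift (ι ≫ (doubleXIso₀ (𝟙 J) hr).inv) (0 : K.X n ⟶ K.X n) =
              (ι ≫ (doubleXIso₀ (𝟙 J) hr).inv) ≫ biprod.inl := by
            apply biprod.hom_ext <;> simp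
          conv_rhs => rw [key, hl]
          simp [r, u, Preadditive.sub_comp, hz]
          rfl
    rw [hiso ⟨(asIso u).symm ≪≫ doubleXIso₀ _ hr⟩, hJ]
  · have hle := h3 _ (hSm (n + 1))
    refine hle.trans (max_le_max (le_of_eq ?_) ?_)
    · exact congrArg (· - 1) (hiso ⟨(doubleXIso₁ (𝟙 (K.X n)) hr hne : DX.X (n + 1) ≅ K.X n)⟩)
    · refine (le_of_eq (hiso ⟨e (n + 1)⟩)).trans ((h2 _ _).trans (max_le ?_ le_rfl))
      rw [hiso ⟨(doubleXIso₁ (𝟙 J) hr hne : DJ.X (n + 1) ≅ J)⟩, hJ]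
      exact zero_le

include hiso h1 h2 h3 in
/-- One sweep, starting from degree `N`. -/
theorem exists_pass (K : CochainComplex A ℤ) (N : ℤ) :
    ∃ (L : CochainComplex A ℤ) (φ : K ⟶ L), QuasiIso φ ∧ (∀ m, N ≤ m → d (L.X m) = 0) ∧
      (∀ m, m < N → IsIso (φ.f m)) ∧
      (∀ t : ℕ, (∀ m, N < m → d (K.X m) = 0) → d (K.X N) ≤ (t : ℕ∞) →
        ∀ m, N + (t : ℤ) < m → IsIso (φ.f m)) := by
  choose nxt f hf1 hf2 hf3 hf4 hf5 using fun (K : CochainComplex A ℤ) (n : ℤ) =>
    exists_step d hiso h1 h2 h3 K n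
  let S : ℕ → CochainComplex A ℤ := fun j => Nat.rec K (fun i T => nxt T (N + (i : ℤ))) j
  let ψ : ∀ j, S j ⟶ S (j + 1) := fun j => f (S j) (N + (j : ℤ))
  have hψ : ∀ (j : ℕ) (m : ℤ), m ≠ N + (j : ℤ) → m ≠ N + (j : ℤ) + 1 → IsIso ((ψ j).f m) :=
    fun j m h h' => hf2 _ _ m h h'
  obtain ⟨L, c, hc, hcn⟩ := exists_eventual S ψ (fun j => hf1 _ _)
    (fun m => ⟨(m - N + 1).toNat, fun j hj => hψ j m (by omega) (by omega)⟩)
  have hd : ∀ (j : ℕ) (m : ℤ), N ≤ m → m < N + (j : ℤ) → d ((S j).X m) = 0 := by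
    intro j
    induction j with
    | zero => intro m h h'; omega
    | succ j ih =>
      intro m h h'
      by_cases hm : m = N + (j : ℤ)
      · subst hm; exact hf3 _ _
      · have := hψ j m hm (by omega)
        exact (hiso ⟨(asIso ((ψ j).f m)).symm⟩).trans (ih m h (by omega))
  refine ⟨L, c 0, hc, fun m hm => ?_, fun m hm => hcn m 0 fun j _ => hψ j m (by omega) (by omega),
    fun t hK ht m hm => ?_⟩
  · have := hcn m (m - N + 1).toNat fun j hj => hψ j m (by omega) (by omega)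
    exact (hiso ⟨(asIso ((c (m - N + 1).toNat).f m)).symm⟩).trans (hd _ m hm (by omega))
  · have key : ∀ j : ℕ, (∀ m, N + (j : ℤ) < m → d ((S j).X m) = 0) ∧
        d ((S j).X (N + (j : ℤ))) ≤ ((t - j : ℕ) : ℕ∞) := by
      intro j
      induction j with
      | zero => simpa using ⟨hK, ht⟩
      | succ j ih =>
        obtain ⟨ih1, ih2⟩ := ih
        refine ⟨fun m h => ?_, ?_⟩
        · have := hψ j m (by omega) (by omega)
          exact (hiso ⟨(asIso ((ψ j).f m)).symm⟩).trans (ih1 m (by omega))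
        · rw [show N + ((j + 1 : ℕ) : ℤ) = N + (j : ℤ) + 1 by omega]
          refine (hf4 (S j) (N + (j : ℤ))).trans (max_le ?_ ?_)
          · refine (tsub_le_tsub_right ih2 1).trans (le_of_eq ?_)
            norm_cast
          · rw [ih1 _ (by omega)]; exact zero_le
    refine hcn m 0 fun j _ => ?_
    by_cases hj : m ≠ N + (j : ℤ) ∧ m ≠ N + (j : ℤ) + 1
    · exact hψ j m hj.1 hj.2
    · refine hf5 _ _ (nonpos_iff_eq_zero.1 ((key j).2.trans (le_of_eq ?_))) m
      norm_cast
      omega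

include hiso h1 h2 h3 in
theorem exists_resolution (K : CochainComplex A ℤ) (hfin : ∀ n : ℤ, d (K.X n) ≠ ⊤)
    (hK : ∀ m : ℤ, ∃ N : ℤ, ∀ n : ℤ, n ≤ N → ∃ k : ℕ, d (K.X n) = k ∧ n + k ≤ m) :
    ∃ (L : CochainComplex A ℤ) (f : K ⟶ L), QuasiIso f ∧ ∀ n, d (L.X n) = 0 := by
  obtain ⟨S0, φ0, hq0, hz0, hlt0, -⟩ := exists_pass d hiso h1 h2 h3 K 0
  choose nxt f hf1 hf2 hf3 hf4 using fun (T : CochainComplex A ℤ) (N : ℤ) =>
    exists_pass d hiso h1 h2 h3 T N
  let S : ℕ → CochainComplex A ℤ := fun j => Nat.rec S0 (fun i T => nxt T (-(i : ℤ) - 1)) j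
  let ψ : ∀ j, S j ⟶ S (j + 1) := fun j => f (S j) (-(j : ℤ) - 1)
  have hS : ∀ j : ℕ, (∀ m, -(j : ℤ) ≤ m → d ((S j).X m) = 0) ∧
      ∀ m, m < -(j : ℤ) → d ((S j).X m) = d (K.X m) := by
    intro j
    induction j with
    | zero =>
      refine ⟨fun m h => hz0 m (by simpa using h), fun m h => ?_⟩
      have := hlt0 m (by simpa using h)
      exact (hiso ⟨(asIso (φ0.f m)).symm⟩)
    | succ j ih =>
      refine ⟨fun m h => hf2 _ _ m (by omega), fun m h => ?_⟩
      have := hf3 (S j) (-(j : ℤ) - 1) m (by omega)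
      exact (hiso ⟨(asIso ((ψ j).f m)).symm⟩).trans (ih.2 m (by omega))
  have hstable : ∀ n : ℤ, ∃ k₀ : ℕ, ∀ j, k₀ ≤ j → IsIso ((ψ j).f n) := by
    intro n
    obtain ⟨M, hM⟩ := hK (n - 1)
    refine ⟨(-M).toNat, fun j hj => ?_⟩
    obtain ⟨k, hk, hle⟩ := hM (-(j : ℤ) - 1) (by omega)
    exact hf4 (S j) _ k (fun m hm => (hS j).1 m (by omega))
      (le_of_eq (((hS j).2 _ (by omega)).trans hk)) n (by omega)
  obtain ⟨L, c, hc, hcn⟩ := exists_eventual S ψ (fun j => hf1 _ _) hstable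
  refine ⟨L, φ0 ≫ c 0, ?_, fun n => ?_⟩
  · infer_instance
  · obtain ⟨k₀, hk₀⟩ := hstable n
    have := hcn n (max k₀ (-n).toNat) fun j hj => hk₀ j (le_trans (le_max_left _ _) hj)
    refine (hiso ⟨(asIso ((c (max k₀ (-n).toNat)).f n)).symm⟩).trans ((hS _).1 n ?_)
    have := le_max_right k₀ (-n).toNat
    omega

end Groth.Agent.CohDerLib.DimShiftRes
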