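import Groth.Agent.CohDerLib.Acyclic
import Groth.Agent.CohDerLib.DimShiftRes
import Groth.Agent.CohDerLib.DeligneDerived
import Mathlib.Algebra.Homology.DerivedCategory.Fractions

/-!
# The unbounded right derived functor of a functor of finite cohomological dimension
-/

universe w w' v v' u u'

open CategoryTheory CategoryTheory.Limits

namespace Groth.Agent.CohDerLib.AcyclicDerived

open Groth.Agent.CohDerLib.Acyclic

variable {A : Type u} [Category.{v} A] [Abelian A] [HasInjectiveResolutions A]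
  {B : Type u'} [Category.{v'} B] [Abelian B] (F : A ⥤ B) [F.Additive]
  (n : ℕ) (hn : ∀ X : A, IsZero ((F.rightDerived n).obj X))

include hn in
theorem exists_acyclic_resolution (K : CochainComplex A ℤ) :
    ∃ (L : CochainComplex A ℤ) (f : K ⟶ L), QuasiIso f ∧ ∀ m, Acy F (L.X m) := by
  classical
  have hb : ∀ X : A, ∃ k : ℕ, ∀ i, k < i → IsZero ((F.rightDerived i).obj X) :=
    fun X => ⟨n, fun i hi => isZero_above n hn i hi.le X⟩
  let dn : A → ℕ := fun X => Nat.find (hb X)
  let d : A → ℕ∞ := fun X => (dn X : ℕ∞)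
  have hd : ∀ X, ∀ i, dn X < i → IsZero ((F.rightDerived i).obj X) := fun X => Nat.find_spec (hb X)
  have hle : ∀ (X : A) (k : ℕ), (∀ i, k < i → IsZero ((F.rightDerived i).obj X)) → dn X ≤ k :=
    fun X k h => Nat.find_min' (hb X) h
  have p0 : ∀ ⦃X Y : A⦄, Nonempty (X ≅ Y) → d X = d Y := by
    rintro X Y ⟨e⟩
    exact congrArg Nat.cast (le_antisymm
      (hle X _ fun i hi => (hd Y i hi).of_iso ((F.rightDerived i).mapIso e))
      (hle Y _ fun i hi => (hd X i hi).of_iso ((F.rightDerived i).mapIso e).symm))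
  have p1 : ∀ X : A, ∃ (Y : A) (ι : X ⟶ Y), Mono ι ∧ d Y = 0 := by
    intro X
    obtain ⟨I⟩ := (inferInstance : HasInjectiveResolution X).out
    refine ⟨I.cocomplex.X 0, I.ι.f 0, _root_.RDer.res_mono I.cocomplex I.ι, ?_⟩
    exact (congrArg Nat.cast (Nat.le_zero.1
      (hle _ 0 fun i hi => acy_of_injective (F := F) (I.cocomplex.X 0) i hi))).trans Nat.cast_zero
  have p2 : ∀ X Y : A, d (X ⊞ Y) ≤ max (d X) (d Y) := by
    intro X Y
    suffices h : dn (X ⊞ Y) ≤ max (dn X) (dn Y) by
      show ((dn _ : ℕ∞)) ≤ max (dn X : ℕ∞) (dn Y : ℕ∞)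
      rcases le_max_iff.1 h with h | h
      · exact le_max_of_le_left ((Nat.cast_le.2 h).trans (le_of_eq (by simp)))
      · exact le_max_of_le_right (Nat.cast_le.2 h)
    exact hle _ _ fun i hi =>
      ((RDerLES.derivedLES F).exact₂ _ (ShortComplex.Splitting.ofHasBinaryBiproduct X Y).shortExact
        i).isZero_X₂ ((hd X i (lt_of_le_of_lt (le_max_left _ _) hi)).eq_of_src _ _)
          ((hd Y i (lt_of_le_of_lt (le_max_right _ _) hi)).eq_of_tgt _ _)
  have p3 : ∀ S : ShortComplex A, S.ShortExact → d S.X₃ ≤ max (d S.X₁ - 1) (d S.X₂) := by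
    intro S hS
    suffices h : dn S.X₃ ≤ max (dn S.X₁ - 1) (dn S.X₂) by
      show ((dn _ : ℕ∞)) ≤ max ((dn S.X₁ : ℕ∞) - 1) (dn S.X₂ : ℕ∞)
      rcases le_max_iff.1 h with h | h
      · exact le_max_of_le_left ((Nat.cast_le.2 h).trans (le_of_eq (by simp)))
      · exact le_max_of_le_right (Nat.cast_le.2 h)
    exact hle _ _ fun i hi =>
      ((RDerLES.derivedLES F).exact₃ S hS i (i + 1) rfl).isZero_X₂
        ((hd S.X₂ i (lt_of_le_of_lt (le_max_right _ _) hi)).eq_of_src _ _)
          ((hd S.X₁ (i + 1) (by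
            have := lt_of_le_of_lt (le_max_left (dn S.X₁ - 1) (dn S.X₂)) hi
            omega)).eq_of_tgt _ _)
  obtain ⟨L, f, hf, hL⟩ := DimShiftRes.exists_resolution d p0 p1 p2 p3 K
    (fun m => ENat.natCast_ne_top _)
    (fun m => ⟨m - n, fun j hj => ⟨dn (K.X j), rfl, by
      have := hle (K.X j) n (fun i hi => isZero_above n hn i hi.le _)
      omega⟩⟩)
  refine ⟨L, f, hf, fun m i hi => hd _ i ?_⟩
  have h0 : (dn (L.X m) : ℕ∞) = 0 := hL m
  norm_cast at h0
  omega

variable [PreservesFiniteLimits F] [HasDerivedCategory.{w} A] [HasDerivedCategory.{w'} B]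

include hn in
theorem exists_data :
    ∃ δ : Deligne.Data DerivedCategory.Qh
        (F.mapHomotopyCategory (ComplexShape.up ℤ) ⋙ DerivedCategory.Qh),
      ∀ K : CochainComplex A ℤ, (∀ m, Acy F (K.X m)) →
        δ.P ((HomotopyCategory.quotient A (ComplexShape.up ℤ)).obj K) := by
  refine ⟨⟨fun X => ∀ m, Acy F (X.as.X m), fun X => ?_, fun X Y s hX hY hs => ?_⟩, fun K h => h⟩
  · obtain ⟨K, rfl⟩ := HomotopyCategory.quotient_obj_surjective X
    obtain ⟨L, f, hf, hL⟩ := exists_acyclic_resolution F n hn K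
    exact ⟨_, (HomotopyCategory.quotient _ _).map f, hL,
      (NatIso.isIso_map_iff (DerivedCategory.quotientCompQhIso A) f).2 inferInstance⟩
  · obtain ⟨K, rfl⟩ := HomotopyCategory.quotient_obj_surjective X
    obtain ⟨L, rfl⟩ := HomotopyCategory.quotient_obj_surjective Y
    obtain ⟨f, rfl⟩ := (HomotopyCategory.quotient _ _).map_surjective s
    have : IsIso (DerivedCategory.Q.map f) :=
      (NatIso.isIso_map_iff (DerivedCategory.quotientCompQhIso A) f).1 hs
    have : QuasiIso f := (DerivedCategory.isIso_Q_map_iff_quasiIso (C := A) f).1 this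
    exact Localization.inverts DerivedCategory.Qh (HomotopyCategory.quasiIso B (ComplexShape.up ℤ))
      _ (quasiIso_map F f hX hY (small_of_finite_dim _ n hn))

include hn in
theorem hasRightDerivedFunctor :
    (F.mapHomotopyCategory (ComplexShape.up ℤ) ⋙ DerivedCategory.Qh).HasRightDerivedFunctor
      (HomotopyCategory.quasiIso A (ComplexShape.up ℤ)) := by
  obtain ⟨δ, -⟩ := exists_data F n hn
  exact δ.hasRightDerivedFunctor _

include hn in
theorem isIso_unit
    [(F.mapHomotopyCategory (ComplexShape.up ℤ) ⋙ DerivedCategory.Qh).HasRightDerivedFunctor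
      (HomotopyCategory.quasiIso A (ComplexShape.up ℤ))]
    (K : CochainComplex A ℤ) (hK : ∀ m, Acy F (K.X m)) :
    IsIso (((F.mapHomotopyCategory (ComplexShape.up ℤ) ⋙
      DerivedCategory.Qh).totalRightDerivedUnit DerivedCategory.Qh
        (HomotopyCategory.quasiIso A (ComplexShape.up ℤ))).app
          ((HomotopyCategory.quotient A (ComplexShape.up ℤ)).obj K)) := by
  obtain ⟨δ, hδ⟩ := exists_data F n hn
  exact δ.isIso_app (HomotopyCategory.quasiIso A (ComplexShape.up ℤ)) (hδ K hK) _ _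

end Groth.Agent.CohDerLib.AcyclicDerived
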