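import Groth.Agent.CohDerLib.StupidTower
import Groth.Agent.CohDerLib.DeligneDerived
import Groth.Agent.DHA.KInj.Products
import Groth.Agent.DHA.KInjectiveResolution
import Groth.Agent.DHA.Telescope
import Mathlib

/-!
# Acyclic complexes for a derived functor which preserves countable sums

If the unbounded right derived functor of a left exact functor `F` preserves countable coproducts
(and `F` itself preserves countable coproducts and sequential colimits), then it is computed by any
complex of `F`-acyclic objects.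
-/

universe w w' v v' u u'

open CategoryTheory CategoryTheory.Limits

namespace Groth.Agent.CohDerLib.AcyclicSums

open Groth.Agent.CohDerLib.Acyclic

/-- A natural transformation invertible on the legs of a colimit preserved on both sides is
invertible at the point. -/
lemma isIso_app_pt {C D : Type*} [Category C] [Category D] {Φ Ψ : C ⥤ D} (θ : Φ ⟶ Ψ) {T : Type*}
    {X : T → C} (c : Cofan X)
    (h₁ : IsColimit (Cofan.mk (Φ.obj c.pt) fun t => Φ.map (c.inj t)))
    (h₂ : IsColimit (Cofan.mk (Ψ.obj c.pt) fun t => Ψ.map (c.inj t)))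
    (h : ∀ t, IsIso (θ.app (X t))) : IsIso (θ.app c.pt) := by
  refine ⟨Cofan.IsColimit.desc h₂ fun t => inv (θ.app (X t)) ≫ Φ.map (c.inj t), ?_, ?_⟩
  · refine Cofan.IsColimit.hom_ext h₁ _ _ fun t => ?_
    change Φ.map (c.inj t) ≫ θ.app c.pt ≫ _ = Φ.map (c.inj t) ≫ 𝟙 _
    rw [θ.naturality_assoc]
    erw [Cofan.IsColimit.fac h₂]
    simp
  · refine Cofan.IsColimit.hom_ext h₂ _ _ fun t => ?_
    change Ψ.map (c.inj t) ≫ _ ≫ θ.app c.pt = Ψ.map (c.inj t) ≫ 𝟙 _
    rw [← Category.assoc]
    erw [Cofan.IsColimit.fac h₂]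
    simp

section

variable {A : Type u} [Category.{v} A] [Abelian A] [IsGrothendieckAbelian.{v} A]

instance : HasExactColimitsOfShape ℕ (CochainComplex A ℤ) :=
  HasExactColimitsOfShape.of_domain_equivalence (CochainComplex A ℤ) (J := AsSmall.{v} ℕ)
    (AsSmall.equiv (C := ℕ)).symm

variable [HasDerivedCategory.{w} A]

/-- Coproduct cofans of complexes are coproduct cofans in the derived category. -/
lemma nonempty_isColimit_Q {T : Type w'} [HasColimitsOfShape (Discrete T) A]
    {K : T → CochainComplex A ℤ} (c : Cofan K) (hc : IsColimit c) :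
    Nonempty (IsColimit (Cofan.mk (DerivedCategory.Q.obj c.pt) fun t =>
      DerivedCategory.Q.map (c.inj t))) := by
  obtain ⟨h⟩ := DHA.KInj.nonempty_isColimit_Q (fun K => by
    obtain ⟨J, g, h₁, h₂, -⟩ := DHA.KInj.exists_resolution A K
    exact ⟨J, g, h₁, h₂⟩) K
  refine ⟨IsColimit.ofIsoColimit h (Cofan.ext
    (DerivedCategory.Q.mapIso ((coproductIsCoproduct K).coconePointUniqueUpToIso hc)) fun t => ?_)⟩
  exact (DerivedCategory.Q.map_comp _ _).symm.trans (congrArg DerivedCategory.Q.map
    ((coproductIsCoproduct K).comp_coconePointUniqueUpToIso_hom hc ⟨t⟩))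

end

variable {A : Type u} [Category.{v} A] [Abelian A] [IsGrothendieckAbelian.{v} A]
  [HasDerivedCategory.{w} A]
  {B : Type u'} [Category.{v'} B] [Abelian B] [IsGrothendieckAbelian.{v'} B]
  [HasDerivedCategory.{w'} B]
  (F : A ⥤ B) [F.Additive]

/-- the functor to derive -/
noncomputable abbrev QF : HomotopyCategory A (ComplexShape.up ℤ) ⥤ DerivedCategory B :=
  F.mapHomotopyCategory (ComplexShape.up ℤ) ⋙ DerivedCategory.Qh

lemma isKInjective_isIso {K L : CochainComplex A ℤ} [K.IsKInjective] [L.IsKInjective]
    (s : (HomotopyCategory.quotient A (ComplexShape.up ℤ)).obj K ⟶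
      (HomotopyCategory.quotient A (ComplexShape.up ℤ)).obj L)
    (hs : IsIso (DerivedCategory.Qh.map s)) : IsIso s := by
  obtain ⟨g, hg⟩ := (CochainComplex.IsKInjective.Qh_map_bijective
    ((HomotopyCategory.quotient A (ComplexShape.up ℤ)).obj L) K).2 (inv (DerivedCategory.Qh.map s))
  refine ⟨g, (CochainComplex.IsKInjective.Qh_map_bijective _ K).1 ?_,
    (CochainComplex.IsKInjective.Qh_map_bijective _ L).1 ?_⟩
  · simp [hg]
  · simp [hg]

variable [PreservesFiniteLimits F]
  [(QF F).HasRightDerivedFunctor (HomotopyCategory.quasiIso A (ComplexShape.up ℤ))]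

/-- The derived functor. -/
noncomputable abbrev RF : DerivedCategory A ⥤ DerivedCategory B :=
  (QF F).totalRightDerived DerivedCategory.Qh (HomotopyCategory.quasiIso A (ComplexShape.up ℤ))

/-- The unit, on complexes. -/
noncomputable def θ :
    F.mapHomologicalComplex (ComplexShape.up ℤ) ⋙ DerivedCategory.Q ⟶ DerivedCategory.Q ⋙ RF F :=
  Functor.whiskerLeft (F.mapHomologicalComplex (ComplexShape.up ℤ))
      (DerivedCategory.quotientCompQhIso B).inv ≫
    Functor.whiskerRight (F.mapHomotopyCategoryFactors (ComplexShape.up ℤ)).inv DerivedCategory.Qh ≫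
    Functor.whiskerLeft (HomotopyCategory.quotient A (ComplexShape.up ℤ))
      ((QF F).totalRightDerivedUnit DerivedCategory.Qh
        (HomotopyCategory.quasiIso A (ComplexShape.up ℤ))) ≫
    Functor.whiskerRight (DerivedCategory.quotientCompQhIso A).hom (RF F)

lemma isIso_θ_iff (K : CochainComplex A ℤ) :
    IsIso ((θ F).app K) ↔ IsIso (((QF F).totalRightDerivedUnit DerivedCategory.Qh
      (HomotopyCategory.quasiIso A (ComplexShape.up ℤ))).app
        ((HomotopyCategory.quotient A (ComplexShape.up ℤ)).obj K)) := by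
  constructor
  · intro h
    let a := (DerivedCategory.quotientCompQhIso B).inv.app
      ((F.mapHomologicalComplex (ComplexShape.up ℤ)).obj K)
    let b := DerivedCategory.Qh.map ((F.mapHomotopyCategoryFactors (ComplexShape.up ℤ)).inv.app K)
    let c := ((QF F).totalRightDerivedUnit DerivedCategory.Qh
      (HomotopyCategory.quasiIso A (ComplexShape.up ℤ))).app
        ((HomotopyCategory.quotient A (ComplexShape.up ℤ)).obj K)
    let d := (RF F).map ((DerivedCategory.quotientCompQhIso A).hom.app K)
    have : IsIso (a ≫ b ≫ c ≫ d) := h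
    have : IsIso (b ≫ c ≫ d) := IsIso.of_isIso_comp_left a _
    have : IsIso (c ≫ d) := IsIso.of_isIso_comp_left b _
    exact IsIso.of_isIso_comp_right c d
  · intro h
    let a := (DerivedCategory.quotientCompQhIso B).inv.app
      ((F.mapHomologicalComplex (ComplexShape.up ℤ)).obj K)
    let b := DerivedCategory.Qh.map ((F.mapHomotopyCategoryFactors (ComplexShape.up ℤ)).inv.app K)
    let c := ((QF F).totalRightDerivedUnit DerivedCategory.Qh
      (HomotopyCategory.quasiIso A (ComplexShape.up ℤ))).app
        ((HomotopyCategory.quotient A (ComplexShape.up ℤ)).obj K)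
    let d := (RF F).map ((DerivedCategory.quotientCompQhIso A).hom.app K)
    have : IsIso c := h
    exact inferInstanceAs (IsIso (a ≫ b ≫ c ≫ d))

/-- The unit is invertible on K-injective complexes. -/
lemma isIso_θ_of_isKInjective (K : CochainComplex A ℤ) [K.IsKInjective] : IsIso ((θ F).app K) := by
  rw [isIso_θ_iff]
  let δ : Deligne.Data DerivedCategory.Qh (QF F) :=
    { P := fun X => CochainComplex.IsKInjective X.as
      res := fun X => by
        obtain ⟨K, rfl⟩ := HomotopyCategory.quotient_obj_surjective X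
        obtain ⟨I, f, hI, hf, -⟩ := DHA.KInj.exists_resolution A K
        exact ⟨_, (HomotopyCategory.quotient _ _).map f, hI,
          (NatIso.isIso_map_iff (DerivedCategory.quotientCompQhIso A) f).2 inferInstance⟩
      inv := fun X Y s hX hY hs => by
        obtain ⟨K, rfl⟩ := HomotopyCategory.quotient_obj_surjective X
        obtain ⟨L, rfl⟩ := HomotopyCategory.quotient_obj_surjective Y
        have : CochainComplex.IsKInjective K := hX
        have : CochainComplex.IsKInjective L := hY
        have := isKInjective_isIso (K := K) (L := L) s hs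
        infer_instance }
  have hP : δ.P ((HomotopyCategory.quotient A (ComplexShape.up ℤ)).obj K) := inferInstanceAs (CochainComplex.IsKInjective K)
  exact δ.isIso_app (HomotopyCategory.quasiIso A (ComplexShape.up ℤ)) hP _ _

/-- Two-out-of-three for the unit along a quasi-isomorphism respected by `F`. -/
lemma isIso_θ_of_quasiIso {K L : CochainComplex A ℤ} (f : K ⟶ L) [QuasiIso f]
    (hL : IsIso ((θ F).app L))
    (hF : IsIso (DerivedCategory.Q.map ((F.mapHomologicalComplex (ComplexShape.up ℤ)).map f))) :
    IsIso ((θ F).app K) := by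
  have : IsIso ((F.mapHomologicalComplex (ComplexShape.up ℤ) ⋙ DerivedCategory.Q).map f ≫
      (θ F).app L) := by
    have : IsIso ((F.mapHomologicalComplex (ComplexShape.up ℤ) ⋙ DerivedCategory.Q).map f) := hF
    infer_instance
  rw [(θ F).naturality f] at this
  have : IsIso ((DerivedCategory.Q ⋙ RF F).map f) := inferInstanceAs (IsIso ((RF F).map (DerivedCategory.Q.map f)))
  exact IsIso.of_isIso_comp_right ((θ F).app K) ((DerivedCategory.Q ⋙ RF F).map f)

omit [IsGrothendieckAbelian.{v} A] [HasDerivedCategory.{w} A] in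
/-- The cone of a quasi-isomorphism is acyclic. -/
lemma acyclic_cone {K L : CochainComplex A ℤ} (f : K ⟶ L) (hf : QuasiIso f) :
    (CochainComplex.mappingCone f).Acyclic := by
  have hmem : HomotopyCategory.quasiIso A (ComplexShape.up ℤ)
      ((HomotopyCategory.quotient A (ComplexShape.up ℤ)).map f) :=
    (HomotopyCategory.quotient_map_mem_quasiIso_iff f).2 (by
      rw [HomologicalComplex.mem_quasiIso_iff]; exact hf)
  rw [HomotopyCategory.quasiIso_eq_trW_subcategoryAcyclic] at hmem
  exact (HomotopyCategory.quotient_obj_mem_subcategoryAcyclic_iff_acyclic _).1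
    ((ObjectProperty.trW_iff_of_distinguished _ _
      (HomotopyCategory.mappingCone_triangleh_distinguished f)).1 hmem)

omit [(QF F).HasRightDerivedFunctor (HomotopyCategory.quasiIso A (ComplexShape.up ℤ))] in
/-- `F` inverts a quasi-isomorphism of complexes of acyclic objects once it kills its cone. -/
lemma isIso_Q_map {K L : CochainComplex A ℤ} (f : K ⟶ L)
    (h : ((F.mapHomologicalComplex (ComplexShape.up ℤ)).obj
      (CochainComplex.mappingCone f)).Acyclic) :
    IsIso (DerivedCategory.Q.map ((F.mapHomologicalComplex (ComplexShape.up ℤ)).map f)) := by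
  have hd := (F.mapHomotopyCategory (ComplexShape.up ℤ)).map_distinguished _
    (HomotopyCategory.mappingCone_triangleh_distinguished f)
  have hm : HomotopyCategory.quasiIso B (ComplexShape.up ℤ)
      ((F.mapHomotopyCategory (ComplexShape.up ℤ)).map
        ((HomotopyCategory.quotient A (ComplexShape.up ℤ)).map f)) := by
    rw [HomotopyCategory.quasiIso_eq_trW_subcategoryAcyclic]
    exact (ObjectProperty.trW_iff_of_distinguished _ _ hd).2
      ((HomotopyCategory.quotient_obj_mem_subcategoryAcyclic_iff_acyclic _).2 h)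
  exact (NatIso.isIso_map_iff (DerivedCategory.quotientCompQhIso B) _).1
    (Localization.inverts DerivedCategory.Qh (HomotopyCategory.quasiIso B (ComplexShape.up ℤ)) _ hm)

/-- The unit is invertible on bounded below complexes of acyclic objects. -/
lemma isIso_θ_of_isStrictlyGE (K : CochainComplex A ℤ) (n : ℤ) [K.IsStrictlyGE n]
    (hK : ∀ m, Acy F (K.X m)) : IsIso ((θ F).app K) := by
  obtain ⟨L, i, hi, hLinj, hL⟩ := CochainComplex.Plus.modelCategoryQuillen.exists_quasiIso_injective K n
  have : L.IsKInjective := CochainComplex.isKInjective_of_injective L n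
  refine isIso_θ_of_quasiIso F i (isIso_θ_of_isKInjective F L) (isIso_Q_map F i ?_)
  have hc : (CochainComplex.mappingCone i).Acyclic := acyclic_cone i hi
  have : (CochainComplex.mappingCone i).IsStrictlyGE (n - 1) :=
    (CochainComplex.isStrictlyGE_iff _ _).2 fun j hj => by
      rw [IsZero.iff_id_eq_zero, CochainComplex.mappingCone.ext_from_iff i (j + 1) j rfl]
      exact ⟨(K.isZero_of_isStrictlyGE n (j + 1) (by omega)).eq_of_src _ _,
        (L.isZero_of_isStrictlyGE n j (by omega)).eq_of_src _ _⟩
  refine acyclic_map hc (fun m => ?_) (small_of_isStrictlyGE _ (n - 1))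
  exact acy_of_iso (HomologicalComplex.homotopyCofiber.XIsoBiprod i m (m + 1) rfl).symm
    (acy_biprod (hK _) (acy_of_injective _))

variable [PreservesColimitsOfShape (Discrete ℕ) F] [PreservesColimitsOfShape ℕ F]
  [PreservesColimitsOfShape (Discrete ℕ) (RF F)]

/-- `F` of an acyclic complex of acyclic objects is acyclic. -/
theorem acyclic_map_of_preserves (C : CochainComplex A ℤ) (hC : C.Acyclic)
    (hT : ∀ m, Acy F (C.X m)) :
    ((F.mapHomologicalComplex (ComplexShape.up ℤ)).obj C).Acyclic := by
  let FC := F.mapHomologicalComplex (ComplexShape.up ℤ)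
  have : PreservesColimitsOfShape (Discrete ℕ) FC :=
    HomologicalComplex.preservesColimitsOfShape_of_eval FC fun i =>
      inferInstanceAs (PreservesColimitsOfShape (Discrete ℕ)
        (HomologicalComplex.eval A (ComplexShape.up ℤ) i ⋙ F))
  have : PreservesColimitsOfShape ℕ FC :=
    HomologicalComplex.preservesColimitsOfShape_of_eval FC fun i =>
      inferInstanceAs (PreservesColimitsOfShape ℕ
        (HomologicalComplex.eval A (ComplexShape.up ℤ) i ⋙ F))
  let X := StupidTower.tower C
  let c : Cofan X.obj := Cofan.mk (∐ X.obj) (Sigma.ι X.obj)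
  have hc : IsColimit c := coproductIsCoproduct X.obj
  let φ : c.pt ⟶ c.pt := Sigma.desc fun n =>
    Sigma.ι X.obj n - X.map (homOfLE (Nat.le_add_right n 1)) ≫ Sigma.ι X.obj (n + 1)
  have hφ : ∀ n, c.inj n ≫ φ =
      c.inj n - X.map (homOfLE (Nat.le_add_right n 1)) ≫ c.inj (n + 1) := fun n => Sigma.ι_desc _ n
  let q : c.pt ⟶ C := Sigma.desc fun n => (StupidTower.cocone C).ι.app n
  have hq : ∀ n, c.inj n ≫ q = (StupidTower.cocone C).ι.app n := fun n => Sigma.ι_desc _ n
  have w : φ ≫ q = 0 := Cofan.IsColimit.hom_ext hc _ _ fun n => by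
    rw [← Category.assoc, hφ, Preadditive.sub_comp, Category.assoc, hq, hq, comp_zero, sub_eq_zero]
    exact ((StupidTower.cocone C).w _).symm
  have hS := DHA.Telescope.shortExact X hc (StupidTower.isColimit C) φ hφ q hq w
  have hc' : IsColimit (Cofan.mk (FC.obj c.pt) fun n => FC.map (c.inj n)) :=
    isColimitCofanMkObjOfIsColimit FC X.obj _ hc
  have hS' := DHA.Telescope.shortExact (X ⋙ FC) (c := Cofan.mk (FC.obj c.pt) fun n => FC.map (c.inj n))
    hc' (isColimitOfPreserves FC (StupidTower.isColimit C)) (FC.map φ) (fun n => by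
      change FC.map (c.inj n) ≫ FC.map φ = FC.map (c.inj n) - FC.map _ ≫ FC.map (c.inj (n + 1))
      rw [← FC.map_comp, hφ, FC.map_sub, FC.map_comp]) (FC.map q) (fun n => by
      change FC.map (c.inj n) ≫ FC.map q = FC.map _
      rw [← FC.map_comp, hq]) ((FC.map_comp _ _).symm.trans ((congrArg FC.map w).trans (FC.map_zero _ _)))
  have : QuasiIso φ := DHA.KInj.quasiIso_of_acyclic hS hC
  have hpt : IsIso ((θ F).app c.pt) := by
    obtain ⟨h₁⟩ := nonempty_isColimit_Q _ hc'
    obtain ⟨h₂⟩ := nonempty_isColimit_Q c hc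
    exact isIso_app_pt (θ F) c h₁
      (isColimitCofanMkObjOfIsColimit (RF F) (fun n => DerivedCategory.Q.obj (X.obj n)) _ h₂)
      fun n => isIso_θ_of_isStrictlyGE F (StupidTower.trunc C n) (-(n : ℤ))
        (StupidTower.acy_trunc C hT n)
  have hnat := (θ F).naturality φ
  have : IsIso (DerivedCategory.Q.map (FC.map φ) ≫ (θ F).app c.pt) := by
    have : IsIso ((DerivedCategory.Q ⋙ RF F).map φ) :=
      inferInstanceAs (IsIso ((RF F).map (DerivedCategory.Q.map φ)))
    have : IsIso ((θ F).app c.pt ≫ (DerivedCategory.Q ⋙ RF F).map φ) := inferInstance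
    rw [← hnat] at this
    exact this
  have : IsIso (DerivedCategory.Q.map (FC.map φ)) :=
    IsIso.of_isIso_comp_right (DerivedCategory.Q.map (FC.map φ)) ((θ F).app c.pt)
  exact hS'.acyclic_X₃ ((DerivedCategory.isIso_Q_map_iff_quasiIso (C := B) _).1 this)

/-- The unit is invertible on all complexes of acyclic objects. -/
theorem isIso_θ (K : CochainComplex A ℤ) (hK : ∀ m, Acy F (K.X m)) : IsIso ((θ F).app K) := by
  obtain ⟨I, f, hI, hf, -, hIinj⟩ := DHA.KInj.exists_resolution A K
  refine isIso_θ_of_quasiIso F f (isIso_θ_of_isKInjective F I) (isIso_Q_map F f ?_)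
  refine acyclic_map_of_preserves F _ ?_ fun m =>
    acy_of_iso (HomologicalComplex.homotopyCofiber.XIsoBiprod f m (m + 1) rfl).symm
      (acy_biprod (hK _) (have := hIinj m; acy_of_injective _))
  exact acyclic_cone f hf

end Groth.Agent.CohDerLib.AcyclicSums
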