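import Groth.Agent.CohDerLib.ProSys
import Groth.Agent.DHA.TruncHom
import Mathlib.Algebra.Homology.DerivedCategory.TStructure
import Mathlib.Algebra.Homology.DerivedCategory.FullyFaithful
import Mathlib.CategoryTheory.Triangulated.TStructure.TruncLTGE
import Mathlib.CategoryTheory.Abelian.Refinements

/-!
# Inverse systems in the derived category with bounded cohomology
-/

universe w v u
open CategoryTheory Category Limits Opposite Pretriangulated DerivedCategory

namespace CohDerLib.ProSys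

lemma exists_isEssConstant_of_iso {C : Type u} [Category.{v} C] {X X' : ARSys.PS C} (e : X ≅ X')
    (h : ∃ (B : C) (c : (Functor.const ℕᵒᵖ).obj B ⟶ X), DerCA.IsEssConstant X B c) :
    ∃ (B : C) (c : (Functor.const ℕᵒᵖ).obj B ⟶ X'), DerCA.IsEssConstant X' B c := by
  obtain ⟨B, c, i, s, hs, hf⟩ := h
  refine ⟨B, c ≫ e.hom, i, e.inv.app (op i) ≫ s, ?_, fun j => ?_⟩
  · rw [NatTrans.comp_app, assoc, Iso.hom_inv_id_app_assoc, hs]
  · obtain ⟨k, hi, hj, h'⟩ := hf j
    refine ⟨k, hi, hj, ?_⟩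
    rw [← cancel_epi (e.hom.app (op k))]
    have n1 := e.hom.naturality (homOfLE hj).op
    have n2 := fun {W : C} (q : X'.obj (op i) ⟶ W) => e.hom.naturality_assoc (homOfLE hi).op q
    simp only [ARSys.tr] at h' ⊢
    rw [← n1, ← n2, h']
    simp only [assoc, NatTrans.comp_app, Iso.hom_inv_id_app_assoc]

lemma exists_isEssConstant_zero {C : Type u} [Category.{v} C] [HasZeroMorphisms C] [HasZeroObject C]
    (X : ARSys.PS C) (h : ∀ n, IsZero (X.obj (op n))) :
    ∃ (B : C) (c : (Functor.const ℕᵒᵖ).obj B ⟶ X), DerCA.IsEssConstant X B c := by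
  let c : (Functor.const ℕᵒᵖ).obj (X.obj (op 0)) ⟶ X :=
    { app := fun _ => 0, naturality := fun _ _ _ => (h _).eq_of_tgt _ _ }
  exact ⟨X.obj (op 0), c, 0, 𝟙 _, (h 0).eq_of_tgt _ _,
    fun j => ⟨j, Nat.zero_le _, le_rfl, (h j).eq_of_tgt _ _⟩⟩

variable {A : Type u} [Category.{v} A] [Abelian A] [HasDerivedCategory.{w} A]

local notation "t" => (DerivedCategory.TStructure.t (C := A))
local notation "H" => DerivedCategory.homologyFunctor A

/-- A map from `≤ m` to `≥ m` is zero if it is zero on `H^m`. -/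
lemma eq_zero_of_le_of_ge {K L : DerivedCategory A} (m : ℤ) [hK : K.IsLE m] [hL : L.IsGE m]
    (f : K ⟶ L) (hf : (H m).map f = 0) : f = 0 := by
  obtain ⟨K', _, ⟨eK⟩⟩ := K.exists_iso_Q_obj_of_isLE m
  obtain ⟨L', _, ⟨eL⟩⟩ := L.exists_iso_Q_obj_of_isGE m
  have h := Groth.Agent.DHA.TruncHom.eq_zero m (eK.inv ≫ f ≫ eL.hom) (by simp [hf])
  simpa using congrArg (fun g => eK.hom ≫ g ≫ eL.inv) h

lemma exists_map_homology_eq {K L : DerivedCategory A} (m : ℤ) [K.IsGE m] [K.IsLE m] [L.IsGE m]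
    [L.IsLE m] (β : (H m).obj K ⟶ (H m).obj L) : ∃ φ : K ⟶ L, (H m).map φ = β := by
  obtain ⟨MK, ⟨eK⟩⟩ := K.exists_iso_singleFunctor_obj_of_isGE_of_isLE m
  obtain ⟨ML, ⟨eL⟩⟩ := L.exists_iso_singleFunctor_obj_of_isGE_of_isLE m
  let σ := singleFunctorCompHomologyFunctorIso A m
  refine ⟨eK.hom ≫ (singleFunctor A m).map
    (σ.inv.app MK ≫ (H m).map eK.inv ≫ β ≫ (H m).map eL.hom ≫ σ.hom.app ML) ≫ eL.inv, ?_⟩
  rw [Functor.map_comp, Functor.map_comp]
  have e := σ.hom.naturality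
    (σ.inv.app MK ≫ (H m).map eK.inv ≫ β ≫ (H m).map eL.hom ≫ σ.hom.app ML)
  simp only [Functor.comp_map, Functor.id_map, Functor.comp_obj, Functor.id_obj] at e
  rw [show σ.hom.app MK ≫ σ.inv.app MK ≫ (H m).map eK.inv ≫ β ≫ (H m).map eL.hom ≫ σ.hom.app ML =
    ((H m).map eK.inv ≫ β ≫ (H m).map eL.hom) ≫ σ.hom.app ML by
      rw [Iso.hom_inv_id_app_assoc]; simp] at e
  rw [(cancel_mono (σ.hom.app ML)).1 e]
  simp [← Functor.map_comp, ← Functor.map_comp_assoc]

lemma hom_ext_of_homology {K L : DerivedCategory A} (m : ℤ) [K.IsLE m] [L.IsGE m]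
    {f g : K ⟶ L} (h : (H m).map f = (H m).map g) : f = g := by
  rw [← sub_eq_zero]
  exact eq_zero_of_le_of_ge m _ (by rw [Functor.map_sub, h, sub_self])

/-- Bounded systems with pro-zero cohomology are pro-zero. -/
theorem isProZero_of_homology (Z : ARSys.PS (DerivedCategory A)) (a b : ℤ)
    (hGE : ∀ n, (Z.obj (op n)).IsGE a) (hLE : ∀ n, (Z.obj (op n)).IsLE b)
    (h : ∀ i, DerCA.IsProZero (Z ⋙ H i)) : DerCA.IsProZero Z := by
  have key : ∀ (d : ℕ) (n : ℕ), ∃ (m : ℕ) (hnm : n ≤ m), ∀ (K : DerivedCategory A),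
      K.IsLE (a - 1 + d) → ∀ v : K ⟶ Z.obj (op m), v ≫ ARSys.tr Z hnm = 0 := by
    intro d
    induction d with
    | zero =>
      intro n
      refine ⟨n, le_rfl, fun K hK v => ?_⟩
      rw [(t).zero_of_isLE_of_isGE v (a - 1 + ((0 : ℕ) : ℤ)) a (by simp) hK (hGE n), zero_comp]
    | succ d ih =>
      intro n
      obtain ⟨n', hn', hih⟩ := ih n
      obtain ⟨m, hm, hz⟩ := h (a - 1 + (d + 1 : ℕ)) n'
      refine ⟨m, hn'.trans hm, fun K hK v => ?_⟩
      obtain ⟨X, Y, hX, hY, f, g, δ, hT⟩ :=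
        (t).exists_triangle (Z.obj (op n')) (a - 1 + d) (a - 1 + (d + 1 : ℕ)) (by push_cast; ring)
      haveI : Y.IsGE (a - 1 + (d + 1 : ℕ)) := ⟨hY⟩
      have h0 : (v ≫ ARSys.tr Z hm) ≫ g = 0 := by
        refine eq_zero_of_le_of_ge (a - 1 + (d + 1 : ℕ)) _ ?_
        rw [Functor.map_comp, Functor.map_comp]
        rw [show (H (a - 1 + (d + 1 : ℕ))).map (ARSys.tr Z hm) = 0 from hz]
        simp
      obtain ⟨w', hw'⟩ : ∃ w' : K ⟶ X, v ≫ ARSys.tr Z hm = w' ≫ f :=
        Triangle.coyoneda_exact₂ _ hT _ h0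
      rw [← tr_trans Z hn' hm, ← assoc, hw', assoc]
      have hXle : X.IsLE (a - 1 + d) := ⟨hX⟩
      rw [show f ≫ ARSys.tr Z hn' = 0 from hih X hXle f, comp_zero]
  intro n
  obtain ⟨m, hm, hm'⟩ := key (b - a + 1).toNat n
  refine ⟨m, hm, ?_⟩
  have := hm' (Z.obj (op m)) ?_ (𝟙 _)
  · rwa [id_comp] at this
  · haveI := hLE m
    exact (t).isLE_of_le _ b (a - 1 + (b - a + 1).toNat) (by have := Int.self_le_toNat (b - a + 1); omega)

/-- A levelwise map which is a pro-isomorphism on bounded cohomology is a pro-isomorphism. -/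
theorem isProIso_of_homology {X Y : ARSys.PS (DerivedCategory A)} (f : X ⟶ Y) (a b : ℤ)
    (hX : ∀ (n : ℕ) (i : ℤ), i < a ∨ b < i → IsZero ((H i).obj (X.obj (op n))))
    (hY : ∀ (n : ℕ) (i : ℤ), i < a ∨ b < i → IsZero ((H i).obj (Y.obj (op n))))
    (hH : ∀ i : ℤ, DerCA.IsProIso (Functor.whiskerRight f (H i))) :
    ∃ (Z : ARSys.PS (DerivedCategory A)) (g : Y ⟶ Z) (h : Z ⟶ X ⋙ shiftFunctor _ (1 : ℤ)),
      (∀ n : ℕ, Triangle.mk (f.app (op n)) (g.app (op n)) (h.app (op n)) ∈ distinguishedTriangles) ∧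
        DerCA.IsProZero Z := by
  choose Z₀ g₀ h₀ hT₀ using fun n : ℕ => distinguished_cocone_triangle (f.app (op n))
  have hstep : ∀ n : ℕ, ∃ w : Z₀ (n + 1) ⟶ Z₀ n,
      g₀ (n + 1) ≫ w = Y.map (homOfLE (n.le_add_right 1)).op ≫ g₀ n ∧
      h₀ (n + 1) ≫ (X.map (homOfLE (n.le_add_right 1)).op)⟦(1 : ℤ)⟧' = w ≫ h₀ n := fun n =>
    complete_distinguished_triangle_morphism _ _ (hT₀ (n + 1)) (hT₀ n)
      (X.map (homOfLE (n.le_add_right 1)).op) (Y.map (homOfLE (n.le_add_right 1)).op)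
      (f.naturality (homOfLE (n.le_add_right 1)).op).symm
  choose w hw₁ hw₂ using hstep
  let Z : ARSys.PS (DerivedCategory A) := Functor.ofOpSequence w
  let g : Y ⟶ Z := NatTrans.ofOpSequence (fun n => g₀ n) (fun n => by
    rw [Functor.ofOpSequence_map_homOfLE_succ]; exact (hw₁ n).symm)
  let h : Z ⟶ X ⋙ shiftFunctor _ (1 : ℤ) := NatTrans.ofOpSequence (fun n => h₀ n) (fun n => by
    rw [Functor.ofOpSequence_map_homOfLE_succ]; exact (hw₂ n).symm)
  have hT : ∀ n : ℕ,
      Triangle.mk (f.app (op n)) (g.app (op n)) (h.app (op n)) ∈ distinguishedTriangles := hT₀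
  have hbd : ∀ (n : ℕ) (i : ℤ), i < a - 1 ∨ b < i → IsZero ((H i).obj (Z.obj (op n))) := by
    intro n i hi
    exact (HomologySequence.exact₃ _ (hT n) i (i + 1) rfl).isZero_of_both_zeros
      ((hY n i (by omega)).eq_of_src _ _) ((hX n (i + 1) (by omega)).eq_of_tgt _ _)
  refine ⟨Z, g, h, hT, isProZero_of_homology Z (a - 1) b ?_ ?_ ?_⟩
  · intro n; rw [DerivedCategory.isGE_iff]; exact fun i hi => hbd n i (Or.inl hi)
  · intro n; rw [DerivedCategory.isLE_iff]; exact fun i hi => hbd n i (Or.inr hi)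
  intro i n
  obtain ⟨n₁, hn₁, b₁, -, hb₁⟩ := hH i n
  obtain ⟨n₂, hn₂, b₂, hb₂, -⟩ := hH (i + 1) n₁
  refine ⟨n₂, hn₁.trans hn₂, ?_⟩
  have hfg : ∀ k, (H i).map (f.app (op k)) ≫ (H i).map (g.app (op k)) = 0 := fun k => by
    rw [← Functor.map_comp]
    exact (congrArg _ (comp_distTriang_mor_zero₁₂ _ (hT k))).trans (Functor.map_zero _ _ _)
  let δ : ∀ k : ℕ, (H i).obj (Z.obj (op k)) ⟶ (H (i + 1)).obj (X.obj (op k)) := fun k =>
    (H 0).shiftMap (h.app (op k)) i (i + 1) (by ring)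
  have hδnat : ∀ {k l : ℕ} (hkl : k ≤ l),
      (H i).map (ARSys.tr Z hkl) ≫ δ k = δ l ≫ (H (i + 1)).map (ARSys.tr X hkl) := by
    intro k l hkl
    exact (((H 0).shiftMap_comp' (ARSys.tr Z hkl) (h.app (op k)) i (i + 1) (by ring)).symm.trans
      (congrArg (fun q => (H 0).shiftMap q i (i + 1) (by ring))
        (h.naturality (homOfLE hkl).op))).trans
      ((H 0).shiftMap_comp (h.app (op l)) (ARSys.tr X hkl) i (i + 1) (by ring))
  have hδf : ∀ k, δ k ≫ (H (i + 1)).map (f.app (op k)) = 0 := fun k =>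
    HomologySequence.δ_comp _ (hT k) i (i + 1) rfl
  have h2 : δ n₂ ≫ (H (i + 1)).map (ARSys.tr X hn₂) = 0 := by
    have e : (H (i + 1)).map (f.app (op n₂)) ≫ b₂ = (H (i + 1)).map (ARSys.tr X hn₂) := hb₂
    rw [← e, reassoc_of% hδf n₂, zero_comp]
  have hex : (ShortComplex.mk ((H i).map (g.app (op n₁))) (δ n₁)
      (HomologySequence.comp_δ _ (hT n₁) i (i + 1) rfl)).Exact :=
    HomologySequence.exact₃ _ (hT n₁) i (i + 1) rfl
  obtain ⟨T', π, hπ, l, hl⟩ := hex.exact_up_to_refinements ((H i).map (ARSys.tr Z hn₂))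
    ((hδnat hn₂).trans h2)
  change π ≫ (H i).map (ARSys.tr Z hn₂) = l ≫ (H i).map (g.app (op n₁)) at hl
  have h1 : (H i).map (g.app (op n₁)) ≫ (H i).map (ARSys.tr Z hn₁) = 0 := by
    have e : b₁ ≫ (H i).map (f.app (op n)) = (H i).map (ARSys.tr Y hn₁) := hb₁
    rw [← Functor.map_comp, ← show ARSys.tr Y hn₁ ≫ g.app (op n) = g.app (op n₁) ≫ ARSys.tr Z hn₁
      from g.naturality _, Functor.map_comp, ← e, assoc, hfg n, comp_zero]
  change (H i).map (ARSys.tr Z (hn₁.trans hn₂)) = 0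
  rw [← tr_trans Z hn₁ hn₂, Functor.map_comp, ← cancel_epi π, comp_zero, ← assoc, hl, assoc, h1,
    comp_zero]

/-- A system concentrated in one degree with essentially constant cohomology. -/
theorem exists_isEssConstant_single (X : ARSys.PS (DerivedCategory A)) (m : ℤ)
    [hGE : ∀ n, (X.obj (op n)).IsGE m] [hLE : ∀ n, (X.obj (op n)).IsLE m]
    (hH : ∃ (B : A) (c : (Functor.const ℕᵒᵖ).obj B ⟶ X ⋙ H m), DerCA.IsEssConstant (X ⋙ H m) B c) :
    ∃ (L : DerivedCategory A) (c : (Functor.const ℕᵒᵖ).obj L ⟶ X), DerCA.IsEssConstant X L c := by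
  obtain ⟨B, cB, i, sB, hsB, hf⟩ := hH
  let L := (singleFunctor A m).obj B
  let σ := (singleFunctorCompHomologyFunctorIso A m).app B
  obtain ⟨s, hs⟩ := exists_map_homology_eq (K := X.obj (op i)) (L := L) m (sB ≫ σ.inv)
  choose u hu using fun n : ℕ =>
    exists_map_homology_eq (K := L) (L := X.obj (op n)) m (σ.hom ≫ cB.app (op n))
  refine ⟨L, { app := fun n => u n.unop, naturality := fun n k f => ?_ }, i, s, ?_, fun j => ?_⟩
  · simp only [Functor.const_obj_map]
    refine (id_comp _).trans (hom_ext_of_homology (K := L) (L := X.obj (op k.unop)) m ?_)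
    rw [Functor.map_comp, hu, hu]
    have e := cB.naturality f
    simp only [Functor.const_obj_map, Functor.comp_map] at e
    rw [assoc]
    exact congrArg (σ.hom ≫ ·) ((id_comp _).symm.trans e)
  · refine hom_ext_of_homology (K := L) (L := L) m ?_
    rw [Functor.map_comp, hu, hs, CategoryTheory.Functor.map_id, assoc, ← assoc (cB.app _), hsB]
    simp [L]
  · obtain ⟨k, hi, hj, e⟩ := hf j
    refine ⟨k, hi, hj, hom_ext_of_homology m ?_⟩
    simp only [Functor.map_comp, hu, hs]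
    simpa using e

/-- Bounded systems with essentially constant cohomology are essentially constant. -/
theorem exists_isEssConstant_of_homology : ∀ (d : ℕ) (a : ℤ) (X : ARSys.PS (DerivedCategory A)),
    (∀ n, (X.obj (op n)).IsGE a) → (∀ n, (X.obj (op n)).IsLE (a + d)) →
    (∀ i : ℤ, ∃ (B : A) (c : (Functor.const ℕᵒᵖ).obj B ⟶ X ⋙ H i),
      DerCA.IsEssConstant (X ⋙ H i) B c) →
    ∃ (L : DerivedCategory A) (c : (Functor.const ℕᵒᵖ).obj L ⟶ X), DerCA.IsEssConstant X L c := by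
  intro d
  induction d with
  | zero =>
    intro a X hGE hLE hH
    simp only [Nat.cast_zero, add_zero] at hLE
    exact exists_isEssConstant_single X a (hH a)
  | succ d ih =>
    intro a X hGE hLE hH
    let X' : ARSys.PS (DerivedCategory A) := X ⋙ (t).truncLT (a + 1)
    let X'' : ARSys.PS (DerivedCategory A) := X ⋙ (t).truncGE (a + 1)
    let ι : X' ⟶ X := Functor.whiskerLeft X ((t).truncLTι (a + 1)) ≫ (Functor.rightUnitor X).hom
    let π : X ⟶ X'' := (Functor.rightUnitor X).inv ≫ Functor.whiskerLeft X ((t).truncGEπ (a + 1))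
    let h : X'' ⟶ X' ⋙ shiftFunctor (DerivedCategory A) (1 : ℤ) :=
      Functor.whiskerLeft X ((t).truncGEδLT (a + 1)) ≫ (Functor.associator _ _ _).inv
    have hT : ∀ n : ℕ,
        Triangle.mk (ι.app (op n)) (π.app (op n)) (h.app (op n)) ∈ distinguishedTriangles := fun n => by
      have e1 : ι.app (op n) = ((t).truncLTι (a + 1)).app (X.obj (op n)) := comp_id _
      have e2 : π.app (op n) = ((t).truncGEπ (a + 1)).app (X.obj (op n)) := id_comp _
      have e3 : h.app (op n) = ((t).truncGEδLT (a + 1)).app (X.obj (op n)) := comp_id _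
      rw [e1, e2, e3]
      exact (t).triangleLTGE_distinguished (a + 1) (X.obj (op n))
    haveI h'GE : ∀ n, (X'.obj (op n)).IsGE a := fun n => by
      haveI := hGE n
      exact inferInstanceAs ((t).IsGE (((t).truncLT (a + 1)).obj (X.obj (op n))) a)
    haveI h'LE : ∀ n, (X'.obj (op n)).IsLE a := fun n =>
      (t).isLE_truncLT_obj (X.obj (op n)) (a + 1) a (by omega)
    have h''GE : ∀ n, (X''.obj (op n)).IsGE (a + 1) := fun n =>
      inferInstanceAs ((t).IsGE (((t).truncGE (a + 1)).obj (X.obj (op n))) (a + 1))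
    have h''LE : ∀ n, (X''.obj (op n)).IsLE (a + 1 + d) := fun n => by
      have := hLE n
      rw [show a + ((d + 1 : ℕ) : ℤ) = a + 1 + d by push_cast; ring] at this
      exact inferInstanceAs ((t).IsLE (((t).truncGE (a + 1)).obj (X.obj (op n))) (a + 1 + d))
    have iso' : ∀ n, IsIso ((H a).map (ι.app (op n))) := fun n => by
      have z1 : IsZero ((H (a - 1)).obj (X''.obj (op n))) := by
        haveI := h''GE n; exact DerivedCategory.isZero_of_isGE _ (a + 1) _ (by omega)
      have z2 : IsZero ((H a).obj (X''.obj (op n))) := by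
        haveI := h''GE n; exact DerivedCategory.isZero_of_isGE _ (a + 1) _ (by omega)
      have : Mono ((H a).map (ι.app (op n))) :=
        (HomologySequence.mono_homologyMap_mor₁_iff _ (hT n) (a - 1) a (by omega)).2
          (z1.eq_of_src _ _)
      have : Epi ((H a).map (ι.app (op n))) :=
        (HomologySequence.epi_homologyMap_mor₁_iff _ (hT n) a).2 (z2.eq_of_tgt _ _)
      exact isIso_of_mono_of_epi _
    refine isEssConstant_middle ι π h hT (exists_isEssConstant_single X' a ?_)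
      (ih (a + 1) X'' h''GE h''LE fun i => ?_)
    · haveI : IsIso (Functor.whiskerRight ι (H a)) :=
        @NatIso.isIso_of_isIso_app _ _ _ _ _ _ _ (fun n => iso' n.unop)
      exact exists_isEssConstant_of_iso (asIso (Functor.whiskerRight ι (H a))).symm (hH a)
    · by_cases hi : i < a + 1
      · refine exists_isEssConstant_zero _ fun n => ?_
        haveI := h''GE n
        exact DerivedCategory.isZero_of_isGE _ (a + 1) _ hi
      · have iso'' : ∀ n, IsIso ((H i).map (π.app (op n))) := fun n => by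
          haveI := h'LE n
          have z1 : IsZero ((H i).obj (X'.obj (op n))) :=
            DerivedCategory.isZero_of_isLE _ a _ (by omega)
          have z2 : IsZero ((H (i + 1)).obj (X'.obj (op n))) :=
            DerivedCategory.isZero_of_isLE _ a _ (by omega)
          have : Mono ((H i).map (π.app (op n))) :=
            (HomologySequence.mono_homologyMap_mor₂_iff _ (hT n) i).2 (z1.eq_of_src _ _)
          have : Epi ((H i).map (π.app (op n))) :=
            (HomologySequence.epi_homologyMap_mor₂_iff _ (hT n) i (i + 1) rfl).2 (z2.eq_of_tgt _ _)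
          exact isIso_of_mono_of_epi _
        haveI : IsIso (Functor.whiskerRight π (H i)) :=
          @NatIso.isIso_of_isIso_app _ _ _ _ _ _ _ (fun n => iso'' n.unop)
        exact exists_isEssConstant_of_iso (asIso (Functor.whiskerRight π (H i))) (hH i)

end CohDerLib.ProSys
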