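import Mathlib.CategoryTheory.Localization.CalculusOfFractions.Preadditive
import Mathlib.CategoryTheory.Abelian.SerreClass.Localization
import Mathlib.Algebra.Homology.ShortComplex.ExactFunctor

/-!
# Localization of an abelian category at a two-sided calculus of fractions is abelian

Adapted from Mathlib's proof for Serre classes.
-/

universe v v' u u'

open CategoryTheory CategoryTheory.Limits

namespace Groth.Agent.CohDerLib.FracAbelian

variable {C : Type u} [Category.{v} C] [Abelian C] {D : Type u'} [Category.{v'} D]
  (L : C ⥤ D) (W : MorphismProperty C) [W.HasLeftCalculusOfFractions]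
  [W.HasRightCalculusOfFractions] [L.IsLocalization W] [Preadditive D] [L.Additive]

include L W

lemma exists_pre {X Y : C} (f : X ⟶ Y) (h : L.map f = 0) :
    ∃ (Z : C) (s : Z ⟶ X), W s ∧ s ≫ f = 0 := by
  rw [← L.map_zero, MorphismProperty.map_eq_iff_precomp L W] at h
  obtain ⟨Z, s, hs, eq⟩ := h
  exact ⟨Z, s, hs, by simpa using eq⟩

lemma exists_post {X Y : C} (f : X ⟶ Y) (h : L.map f = 0) :
    ∃ (Z : C) (s : Y ⟶ Z), W s ∧ f ≫ s = 0 := by
  rw [← L.map_zero, MorphismProperty.map_eq_iff_postcomp L W] at h
  obtain ⟨Z, s, hs, eq⟩ := h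
  exact ⟨Z, s, hs, by simpa using eq⟩

lemma preservesMonomorphisms : L.PreservesMonomorphisms where
  preserves {X Y} f _ := by
    have := Localization.essSurj L W
    rw [Preadditive.mono_iff_cancel_zero]
    intro P z hz
    obtain ⟨φ, hφ⟩ := Localization.exists_rightFraction L W
      ((L.objObjPreimageIso P).hom ≫ z)
    rw [← cancel_epi (L.objObjPreimageIso P).hom, comp_zero, hφ,
      ← cancel_epi (L.map φ.s), comp_zero,
      MorphismProperty.RightFraction.map_s_comp_map]
    have h1 : L.map φ.s ≫ (L.objObjPreimageIso P).hom ≫ z = L.map φ.f := by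
      rw [hφ, MorphismProperty.RightFraction.map_s_comp_map]
    have h2 : L.map (φ.f ≫ f) = 0 := by
      rw [L.map_comp, ← h1]; simp [hz]
    obtain ⟨Z, s, hs, eq⟩ := exists_pre L W _ h2
    rw [← Category.assoc] at eq
    have eq' : s ≫ φ.f = 0 := by rw [← cancel_mono f, eq, zero_comp]
    have := Localization.inverts L W s hs
    rw [← cancel_epi (L.map s), comp_zero, ← L.map_comp, eq', L.map_zero]

lemma preservesEpimorphisms : L.PreservesEpimorphisms where
  preserves {X Y} f _ := by
    have := Localization.essSurj L W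
    rw [Preadditive.epi_iff_cancel_zero]
    intro P z hz
    obtain ⟨φ, hφ⟩ := Localization.exists_leftFraction L W
      (z ≫ (L.objObjPreimageIso P).inv)
    rw [← cancel_mono (L.objObjPreimageIso P).inv, zero_comp, hφ,
      ← cancel_mono (L.map φ.s), zero_comp,
      MorphismProperty.LeftFraction.map_comp_map_s]
    have h1 : (z ≫ (L.objObjPreimageIso P).inv) ≫ L.map φ.s = L.map φ.f := by
      rw [hφ, MorphismProperty.LeftFraction.map_comp_map_s]
    have h2 : L.map (f ≫ φ.f) = 0 := by
      rw [L.map_comp, ← h1]; simp [reassoc_of% hz]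
    obtain ⟨Z, s, hs, eq⟩ := exists_post L W _ h2
    rw [Category.assoc] at eq
    have eq' : φ.f ≫ s = 0 := by rw [← cancel_epi f, eq, comp_zero]
    have := Localization.inverts L W s hs
    rw [← cancel_mono (L.map s), zero_comp, ← L.map_comp, eq', L.map_zero]

set_option backward.isDefEq.respectTransparency false in
lemma preservesKernel {X Y : C} (f : X ⟶ Y) :
    PreservesLimit (parallelPair f 0) L := by
  have := preservesMonomorphisms L W
  have := Localization.essSurj L W
  suffices ∀ (P : D) (z : P ⟶ L.obj X) (hz : z ≫ L.map f = 0),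
      ∃ (l : P ⟶ L.obj (kernel f)), l ≫ L.map (kernel.ι f) = z from
    preservesLimit_of_preserves_limit_cone (kernelIsKernel f)
      ((KernelFork.isLimitMapConeEquiv _ L).2
        (Fork.IsLimit.ofExistsUnique
          (fun s ↦ existsUnique_of_exists_of_unique
            (this _ _ (KernelFork.condition s))
            (fun _ _ h₁ h₂ ↦ by simpa [cancel_mono] using h₁.trans h₂.symm))))
  intro P w hw
  wlog hw' : ∃ (Z : C) (hZ : P = L.obj Z) (z : Z ⟶ X), w = eqToHom hZ ≫ L.map z
      generalizing P
  · obtain ⟨φ, hφ⟩ := Localization.exists_rightFraction L W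
      ((L.objObjPreimageIso P).hom ≫ w)
    rw [← cancel_epi (L.map φ.s),
      MorphismProperty.RightFraction.map_s_comp_map] at hφ
    obtain ⟨l, hl⟩ := this _ (L.map φ.f) (by
      rw [← hφ, Category.assoc, Category.assoc, hw, comp_zero, comp_zero]) ⟨_, rfl, φ.f, by simp⟩
    exact ⟨(L.objObjPreimageIso P).inv ≫ inv (L.map φ.s) ≫ l, by simp [hl, ← hφ]⟩
  obtain ⟨Z, rfl, z, rfl⟩ := hw'
  simp only [eqToHom_refl, Category.id_comp, ← L.map_comp] at hw
  obtain ⟨Z', t, ht, fac⟩ := exists_pre L W _ hw
  have := Localization.inverts L W t ht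
  rw [← Category.assoc] at fac
  exact ⟨inv (L.map t) ≫ L.map (kernel.lift _ _ fac), by simp [← Functor.map_comp]⟩

set_option backward.isDefEq.respectTransparency false in
lemma preservesCokernel {X Y : C} (f : X ⟶ Y) :
    PreservesColimit (parallelPair f 0) L := by
  have := preservesEpimorphisms L W
  have := Localization.essSurj L W
  suffices ∀ (P : D) (z : L.obj Y ⟶ P) (hz : L.map f ≫ z = 0),
      ∃ (l : L.obj (cokernel f) ⟶ P), L.map (cokernel.π f) ≫ l = z from
    preservesColimit_of_preserves_colimit_cocone (cokernelIsCokernel f)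
      ((CokernelCofork.isColimitMapCoconeEquiv _ L).2
        (Cofork.IsColimit.ofExistsUnique
          (fun s ↦ existsUnique_of_exists_of_unique
            (this _ _ (CokernelCofork.condition s))
            (fun _ _ h₁ h₂ ↦ by simpa [cancel_epi] using h₁.trans h₂.symm))))
  intro P w hw
  wlog hw' : ∃ (Z : C) (hZ : L.obj Z = P) (z : Y ⟶ Z), w = L.map z ≫ eqToHom hZ
      generalizing P
  · obtain ⟨φ, hφ⟩ := Localization.exists_leftFraction L W
      (w ≫ (L.objObjPreimageIso P).inv)
    rw [← cancel_mono (L.map φ.s), Category.assoc,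
      MorphismProperty.LeftFraction.map_comp_map_s] at hφ
    obtain ⟨l, hl⟩ := this _ (L.map φ.f) (by rw [← hφ, reassoc_of% hw, zero_comp])
      ⟨_, rfl, φ.f, by simp⟩
    exact ⟨l ≫ inv (L.map φ.s) ≫ (L.objObjPreimageIso P).hom, by simp [reassoc_of% hl, ← hφ]⟩
  obtain ⟨Z, rfl, z, rfl⟩ := hw'
  simp only [eqToHom_refl, Category.comp_id, ← L.map_comp] at hw
  obtain ⟨Z', t, ht, fac⟩ := exists_post L W _ hw
  rw [Category.assoc] at fac
  have := Localization.inverts L W t ht
  exact ⟨L.map (cokernel.desc _ _ fac) ≫ inv (L.map t), by simp [← L.map_comp_assoc]⟩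

set_option backward.isDefEq.respectTransparency false in
lemma hasKernels : HasKernels D where
  has_limit f := by
    obtain ⟨g, ⟨e⟩⟩ :=
      (Localization.essSurj_mapArrow L W).mem_essImage (Arrow.mk f)
    have := preservesKernel L W g.hom
    have : HasLimit (parallelPair (L.map g.hom) 0) :=
      ⟨_, (KernelFork.isLimitMapConeEquiv _ L).1
        (isLimitOfPreserves L (kernelIsKernel g.hom))⟩
    exact hasLimit_of_iso (show parallelPair (L.map g.hom) 0 ≅ _ from
      parallelPair.ext (Arrow.leftFunc.mapIso e) (Arrow.rightFunc.mapIso e))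

set_option backward.isDefEq.respectTransparency false in
lemma hasCokernels : HasCokernels D where
  has_colimit f := by
    obtain ⟨g, ⟨e⟩⟩ :=
      (Localization.essSurj_mapArrow L W).mem_essImage (Arrow.mk f)
    have := preservesCokernel L W g.hom
    have : HasColimit (parallelPair (L.map g.hom) 0) :=
      ⟨_, (CokernelCofork.isColimitMapCoconeEquiv _ L).1
        (isColimitOfPreserves L (cokernelIsCokernel g.hom))⟩
    exact hasColimit_of_iso (show _ ≅ parallelPair (L.map g.hom) 0 from
      parallelPair.ext (Arrow.leftFunc.mapIso e.symm) (Arrow.rightFunc.mapIso e.symm))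

/-- if `L.map f` is mono, the coimage projection becomes invertible -/
lemma isIso_map_coimage_π {X Y : C} (f : X ⟶ Y) [Mono (L.map f)] :
    IsIso (L.map (Abelian.coimage.π f)) := by
  have h0 : L.map (kernel.ι f) = 0 := by
    rw [← cancel_mono (L.map f), zero_comp, ← L.map_comp, kernel.condition, L.map_zero]
  have := preservesCokernel L W (kernel.ι f)
  let hc := (CokernelCofork.isColimitMapCoconeEquiv _ L).1
    (isColimitOfPreserves L (cokernelIsCokernel (kernel.ι f)))
  exact CokernelCofork.IsColimit.isIso_π _ hc h0

/-- if `L.map f` is epi, the image inclusion becomes invertible -/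
lemma isIso_map_image_ι {X Y : C} (f : X ⟶ Y) [Epi (L.map f)] :
    IsIso (L.map (Abelian.image.ι f)) := by
  have h0 : L.map (cokernel.π f) = 0 := by
    rw [← cancel_epi (L.map f), comp_zero, ← L.map_comp, cokernel.condition, L.map_zero]
  have := preservesKernel L W (cokernel.π f)
  let hc := (KernelFork.isLimitMapConeEquiv _ L).1
    (isLimitOfPreserves L (kernelIsKernel (cokernel.π f)))
  exact KernelFork.IsLimit.isIso_ι _ hc h0

set_option backward.isDefEq.respectTransparency false in
lemma isNormalMonoCategory : IsNormalMonoCategory D where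
  normalMonoOfMono g hg := by
    obtain ⟨f, ⟨e⟩⟩ := (Localization.essSurj_mapArrow L W).mem_essImage (Arrow.mk g)
    have : Mono (L.map f.hom) :=
      ((MorphismProperty.monomorphisms D).arrow_iso_iff e).2 hg
    have := isIso_map_coimage_π L W f.hom
    let e₁ : Arrow.mk (L.map (Abelian.factorThruCoimage f.hom)) ≅ Arrow.mk (L.map f.hom) :=
      (Arrow.isoMk' (L.map f.hom) (L.map (Abelian.factorThruCoimage f.hom))
        (asIso (L.map (Abelian.coimage.π f.hom))) (Iso.refl _)
        (by simp [← L.map_comp])).symm
    let e' : Arrow.mk (L.map (Abelian.factorThruCoimage f.hom)) ≅ Arrow.mk g := e₁ ≪≫ e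
    let hf' := normalMonoOfMono (Abelian.factorThruCoimage f.hom)
    have := preservesKernel L W hf'.g
    refine ⟨NormalMono.ofArrowIso ?_ e'⟩
    exact {
      Z := L.obj hf'.Z
      g := L.map hf'.g
      w := by rw [← L.map_comp]; simp [hf'.w]
      isLimit :=
        (KernelFork.isLimitMapConeEquiv _ L).1
          (isLimitOfPreserves L hf'.isLimit) }

set_option backward.isDefEq.respectTransparency false in
lemma isNormalEpiCategory : IsNormalEpiCategory D where
  normalEpiOfEpi g hg := by
    obtain ⟨f, ⟨e⟩⟩ := (Localization.essSurj_mapArrow L W).mem_essImage (Arrow.mk g)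
    have : Epi (L.map f.hom) :=
      ((MorphismProperty.epimorphisms D).arrow_iso_iff e).2 hg
    have := isIso_map_image_ι L W f.hom
    let e₁ : Arrow.mk (L.map (Abelian.factorThruImage f.hom)) ≅ Arrow.mk (L.map f.hom) :=
      Arrow.isoMk' (L.map (Abelian.factorThruImage f.hom)) (L.map f.hom)
        (Iso.refl _) (asIso (L.map (Abelian.image.ι f.hom)))
        (by simp [← L.map_comp])
    let e' : Arrow.mk (L.map (Abelian.factorThruImage f.hom)) ≅ Arrow.mk g := e₁ ≪≫ e
    let hf' := normalEpiOfEpi (Abelian.factorThruImage f.hom)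
    have := preservesCokernel L W hf'.g
    refine ⟨NormalEpi.ofArrowIso ?_ e'⟩
    exact {
      W := L.obj hf'.W
      g := L.map hf'.g
      w := by rw [← L.map_comp]; simp [hf'.w]
      isColimit :=
        (CokernelCofork.isColimitMapCoconeEquiv _ L).1
          (isColimitOfPreserves L hf'.isColimit) }

/-- The abelian structure on the localized category. -/
@[instance_reducible]
noncomputable def abelian : Abelian D := by
  have := Localization.essSurj L W
  have : HasFiniteProducts D := L.hasFiniteProducts_of_additive_of_essSurj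
  have := hasKernels L W
  have := hasCokernels L W
  have := isNormalMonoCategory L W
  have := isNormalEpiCategory L W
  constructor

lemma preservesFiniteLimits : PreservesFiniteLimits L := by
  let := abelian L W
  rw [((Functor.preservesFiniteLimits_tfae L).out 3 2 :)]
  intro _ _ f
  exact preservesKernel L W f

lemma preservesFiniteColimits : PreservesFiniteColimits L := by
  let := abelian L W
  rw [((Functor.preservesFiniteColimits_tfae L).out 3 2 :)]
  intro _ _ f
  exact preservesCokernel L W f

end Groth.Agent.CohDerLib.FracAbelian
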