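import Groth.Agent.ModFlat.CplxRes
import Mathlib.Algebra.Homology.Embedding.HomEquiv
import Mathlib.Algebra.Homology.Embedding.TruncLEHomology
import Mathlib.Algebra.Homology.Embedding.CochainComplex

/-!
# Direct systems of left resolutions of truncations

`exists_factor_of_isTruncLE` is adapted from `Groth.Agent.ModFlat.FreeRes` (helper45), without the
dependence on sheaves of modules.
-/

set_option autoImplicit false

universe v u

open CategoryTheory CategoryTheory.Limits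

namespace Groth.Agent.CohDerLib.LeftResSystem

open Groth.Agent.ModFlat

variable {A : Type u} [Category.{v} A] [Abelian A]

section
variable {ι ι' : Type} {c : ComplexShape ι} {c' : ComplexShape ι'} (e : c.Embedding c') [e.IsRelIff]
/-- A strictly supported complex maps to its stupid truncation. -/
noncomputable def toTrunc (K : HomologicalComplex A c') [K.IsStrictlySupported e] :
    K ⟶ (K.restriction e).extend e :=
  e.liftExtend (𝟙 _) (fun j hj i' hi' =>
    (K.isZero_X_of_isStrictlySupported e i' (fun i => hj.notMem hi' i)).eq_of_src _ _)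

instance isIso_toTrunc (K : HomologicalComplex A c') [K.IsStrictlySupported e] :
    IsIso (toTrunc e K) := by
  have : ∀ i', IsIso ((toTrunc e K).f i') := fun i' => by
    by_cases hi : ∃ i, e.f i = i'
    · obtain ⟨i, hi⟩ := hi
      exact (e.isIso_liftExtend_f_iff _ _ hi).2 (inferInstanceAs (IsIso (𝟙 _)))
    · exact isIso_of_source_target_iso_zero _
        (IsZero.isoZero (K.isZero_X_of_isStrictlySupported e i' (fun i h => hi ⟨i, h⟩)))
        (IsZero.isoZero (HomologicalComplex.isZero_extend_X _ _ _ (fun i h => hi ⟨i, h⟩)))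
  exact HomologicalComplex.Hom.isIso_of_components _

theorem toTrunc_naturality {K L : HomologicalComplex A c'} [K.IsStrictlySupported e]
    [L.IsStrictlySupported e] (φ : K ⟶ L) :
    φ ≫ toTrunc e L = toTrunc e K ≫
      HomologicalComplex.extendMap (HomologicalComplex.restrictionMap φ e) e := by
  refine (e.homEquiv K (L.restriction e)).injective (Subtype.ext ?_)
  change e.homRestrict _ = e.homRestrict _
  rw [e.homRestrict_precomp, e.homRestrict_comp_extendMap, toTrunc, toTrunc,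
    e.homRestrict_liftExtend, e.homRestrict_liftExtend]
  simp

theorem exists_factor_of_isTruncLE (P : A → A)
    (p : ∀ X, P X ⟶ X) [∀ X, Epi (p X)] (Good : A → Prop) (hP : ∀ X, Good (P X))
    (hiso : ∀ {X Y : A}, (X ≅ Y) → Good X → Good Y)
    (hbi : ∀ {X Y : A}, Good X → Good Y → Good (X ⊞ Y)) (hz : ∀ {X : A}, IsZero X → Good X)
    (b : ℤ) (K H : CochainComplex A ℤ) [K.IsStrictlyLE b] [H.IsStrictlyLE b] (φ : K ⟶ H)
    (hK : ∀ i, Good (K.X i)) :
    ∃ (M : CochainComplex A ℤ) (i : K ⟶ M) (q : M ⟶ H), i ≫ q = φ ∧ M.IsStrictlyLE b ∧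
      QuasiIso q ∧ (∀ j, Epi (q.f j)) ∧ (∀ j, Good (M.X j)) ∧
      ∀ j, ∃ r : M.X j ⟶ K.X j, i.f j ≫ r = 𝟙 _ ∧ Good (cokernel (i.f j)) := by
  let e := ComplexShape.embeddingUpIntLE b
  let φ' := HomologicalComplex.restrictionMap φ e
  let L := CplxRes.cx P p φ'
  have hq : QuasiIso (CplxRes.π P p φ') := CplxRes.quasiIso_π P p φ'
  refine ⟨L.extend e, toTrunc e K ≫ HomologicalComplex.extendMap (CplxRes.ι P p φ') e,
    HomologicalComplex.extendMap (CplxRes.π P p φ') e ≫ inv (toTrunc e H), ?_, inferInstance,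
    inferInstance, fun j => ?_, ?_⟩
  · rw [Category.assoc, ← HomologicalComplex.extendMap_comp_assoc, CplxRes.ι_π,
      ← Category.assoc, IsIso.comp_inv_eq]
    exact (toTrunc_naturality e φ).symm
  · have : Epi ((HomologicalComplex.extendMap (CplxRes.π P p φ') e).f j) := by
      by_cases hj : ∃ m, e.f m = j
      · obtain ⟨m, hm⟩ := hj
        rw [HomologicalComplex.extendMap_f _ e hm]
        have := CplxRes.epi_π_f P p φ' m
        infer_instance
      · exact ⟨fun g h _ => ((H.isZero_X_of_isStrictlySupported e j (fun m hm => hj ⟨m, hm⟩)).of_iso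
          ((HomologicalComplex.Hom.isoApp (asIso (toTrunc e H)) j).symm)).eq_of_src _ _⟩
    rw [HomologicalComplex.comp_f]
    infer_instance
  · have key : ∀ j, ∃ (F : A) (t : K.X j ⊞ F ≅ (L.extend e).X j), Good F ∧
        biprod.inl ≫ t.hom =
          (toTrunc e K ≫ HomologicalComplex.extendMap (CplxRes.ι P p φ') e).f j := fun j => by
      by_cases hj : ∃ m, e.f m = j
      · obtain ⟨m, hm⟩ := hj
        obtain ⟨Y, ⟨f⟩⟩ := (CplxRes.stage P p φ' m).free
        refine ⟨_, biprod.mapIso (K.restrictionXIso e hm).symm (Iso.refl _) ≪≫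
          (CplxRes.stage P p φ' m).split ≪≫ (L.extendXIso e hm).symm, hiso f.symm (hP Y), ?_⟩
        rw [HomologicalComplex.comp_f, HomologicalComplex.extendMap_f _ e hm, toTrunc,
          e.liftExtend_f _ _ hm]
        simp [CplxRes.ι]
        rfl
      · have hKj := K.isZero_X_of_isStrictlySupported e j (fun m hm => hj ⟨m, hm⟩)
        refine ⟨K.X j, (IsZero.iso ?_ (L.isZero_extend_X e j (fun m hm => hj ⟨m, hm⟩))), hz hKj,
          hKj.eq_of_src _ _⟩
        exact (IsZero.iff_id_eq_zero _).2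
          (biprod.hom_ext' _ _ (hKj.eq_of_src _ _) (hKj.eq_of_src _ _))
    refine ⟨fun j => ?_, fun j => ?_⟩
    · obtain ⟨F, t, hF, -⟩ := key j
      exact hiso t (hbi (hK j) hF)
    · obtain ⟨F, t, hF, ht⟩ := key j
      refine ⟨t.inv ≫ biprod.fst, by simp [← ht], hiso ?_ hF⟩
      exact cokernelBiprodInlIso.symm ≪≫
        cokernel.mapIso _ _ (Iso.refl _) t (by simpa using ht)

end

/-- the comparison between consecutive truncations -/
noncomputable def truncStep (G : CochainComplex A ℤ) (a b : ℤ) (h : a ≤ b) :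
    G.truncLE a ⟶ G.truncLE b :=
  have := (G.truncLE a).isStrictlyLE_of_le a b h
  inv ((G.truncLE a).ιTruncLE b) ≫ CochainComplex.truncLEMap (G.ιTruncLE a) b

theorem truncStep_ι (G : CochainComplex A ℤ) (a b : ℤ) (h : a ≤ b) :
    truncStep G a b h ≫ G.ιTruncLE b = G.ιTruncLE a := by
  have := (G.truncLE a).isStrictlyLE_of_le a b h
  rw [truncStep, Category.assoc, IsIso.inv_comp_eq]
  exact CochainComplex.ιTruncLE_naturality _ _

theorem exists_system (P : ObjectProperty A) [P.IsClosedUnderIsomorphisms]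
    (hP0 : ∃ Z : A, IsZero Z ∧ P Z) (hPsum : ∀ X Y : A, P X → P Y → P (X ⊞ Y))
    (hP : ∀ X : A, ∃ (Y : A) (π : Y ⟶ X), P Y ∧ Epi π) (K : CochainComplex A ℤ) :
    ∃ (Q : ℕ → CochainComplex A ℤ) (ι : ∀ n, Q n ⟶ Q (n + 1))
      (π : ∀ n : ℕ, Q n ⟶ K.truncLE (n : ℤ)),
      (∀ n, QuasiIso (π n) ∧ ∀ i, Epi ((π n).f i)) ∧
      (∀ n, ∃ b : ℤ, (Q n).IsStrictlyLE b) ∧ (∀ n i, P ((Q n).X i)) ∧
      (∀ n i, (∃ r : (Q (n + 1)).X i ⟶ (Q n).X i, (ι n).f i ≫ r = 𝟙 _) ∧
        P (cokernel ((ι n).f i))) ∧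
      (∀ n : ℕ, π n ≫ K.ιTruncLE (n : ℤ) = ι n ≫ π (n + 1) ≫ K.ιTruncLE ((n + 1 : ℕ) : ℤ)) := by
  choose PP pp hPP hpp using hP
  have : ∀ X, Epi (pp X) := hpp
  have hz : ∀ {X : A}, IsZero X → P X := fun {X} hX => by
    obtain ⟨Z, hZ, hPZ⟩ := hP0
    exact P.prop_of_iso (hZ.iso hX) hPZ
  let S : ℕ → Type _ := fun n => { x : Σ Q : CochainComplex A ℤ, (Q ⟶ K.truncLE (n : ℤ)) //
    x.1.IsStrictlyLE (n : ℤ) ∧ QuasiIso x.2 ∧ (∀ i, Epi (x.2.f i)) ∧ ∀ i, P (x.1.X i) }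
  have step : ∀ (b : ℤ) (L : CochainComplex A ℤ) [L.IsStrictlyLE b] (φ : L ⟶ K.truncLE b),
      (∀ i, P (L.X i)) → ∃ (M : CochainComplex A ℤ) (i : L ⟶ M) (q : M ⟶ K.truncLE b),
        i ≫ q = φ ∧ M.IsStrictlyLE b ∧ QuasiIso q ∧ (∀ j, Epi (q.f j)) ∧ (∀ j, P (M.X j)) ∧
        ∀ j, ∃ r : M.X j ⟶ L.X j, i.f j ≫ r = 𝟙 _ ∧ P (cokernel (i.f j)) :=
    fun b L _ φ hL => exists_factor_of_isTruncLE PP pp P hPP
      (fun e h => P.prop_of_iso e h) (fun h h' => hPsum _ _ h h') hz b L _ φ hL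
  have h₀ : Nonempty (S 0) := by
    let O : CochainComplex A ℤ := HomologicalComplex.zero
    have hzj : ∀ i, IsZero (O.X i) := fun i =>
      (HomologicalComplex.eval A (ComplexShape.up ℤ) i).map_isZero HomologicalComplex.isZero_zero
    have : O.IsStrictlyLE ((0 : ℕ) : ℤ) :=
      (CochainComplex.isStrictlyLE_iff _ _).2 fun i _ => hzj i
    obtain ⟨M, -, q, -, h2, h3, h4, h5, -⟩ := step ((0 : ℕ) : ℤ) O 0 (fun i => hz (hzj i))
    exact ⟨⟨⟨M, q⟩, h2, h3, h4, h5⟩⟩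
  have next : ∀ n (s : S n), ∃ (t : S (n + 1)) (i : s.1.1 ⟶ t.1.1),
      s.1.2 ≫ K.ιTruncLE (n : ℤ) = i ≫ t.1.2 ≫ K.ιTruncLE ((n + 1 : ℕ) : ℤ) ∧
      ∀ j, ∃ r : t.1.1.X j ⟶ s.1.1.X j, i.f j ≫ r = 𝟙 _ ∧ P (cokernel (i.f j)) := by
    rintro n ⟨⟨Q, q⟩, hQ, -, -, hQP⟩
    have := hQ
    have := Q.isStrictlyLE_of_le (n : ℤ) ((n + 1 : ℕ) : ℤ) (by omega)
    obtain ⟨M, i, q', h1, h2, h3, h4, h5, h6⟩ :=
      step ((n + 1 : ℕ) : ℤ) Q (q ≫ truncStep K _ _ (by omega)) hQP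
    refine ⟨⟨⟨M, q'⟩, h2, h3, h4, h5⟩, i, ?_, h6⟩
    rw [reassoc_of% h1, truncStep_ι]
  choose nx ii h1 h2 using next
  let s : ∀ n, S n := fun n => Nat.rec (motive := S) h₀.some (fun k x => nx k x) n
  exact ⟨fun n => (s n).1.1, fun n => ii n (s n), fun n => (s n).1.2,
    fun n => ⟨(s n).2.2.1, (s n).2.2.2.1⟩, fun n => ⟨_, (s n).2.1⟩, fun n => (s n).2.2.2.2,
    fun n i => ⟨⟨_, (h2 n (s n) i).choose_spec.1⟩, (h2 n (s n) i).choose_spec.2⟩,
    fun n => h1 n (s n)⟩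

end Groth.Agent.CohDerLib.LeftResSystem
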