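import Mathlib.CategoryTheory.Triangulated.Triangulated
import Mathlib.Algebra.Homology.HomologicalComplex

/-!
# Postnikov systems
-/

universe v u
open CategoryTheory Category Limits Pretriangulated ZeroObject

namespace CohDerLib.Postnikov

variable {D : Type u} [Category.{v} D] [Preadditive D] [HasZeroObject D] [HasShift D ℤ]
  [∀ n : ℤ, (shiftFunctor D n).Additive] [Pretriangulated D]

/-- A map into the first object of a triangle killed by the first morphism vanishes if all maps from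
its shifted source to the third object vanish. -/
lemma eq_zero_of_comp_mor₁ {Y X Z A : D} (a : Y ⟶ X) (b : X ⟶ Z) (c : Z ⟶ Y⟦(1 : ℤ)⟧)
    (hT : Triangle.mk a b c ∈ distinguishedTriangles) (t : A ⟶ Y) (ht : t ≫ a = 0)
    (h : ∀ χ : A⟦(1 : ℤ)⟧ ⟶ Z, χ = 0) : t = 0 := by
  obtain ⟨χ, hχ⟩ : ∃ χ, t⟦(1 : ℤ)⟧' = χ ≫ c :=
    Triangle.coyoneda_exact₁ _ hT (t⟦(1 : ℤ)⟧') (by
      exact ((shiftFunctor D (1 : ℤ)).map_comp t a).symm.trans (by rw [ht, Functor.map_zero]; rfl))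
  apply (shiftFunctor D (1 : ℤ)).map_injective
  rw [hχ, h χ, zero_comp, Functor.map_zero]

omit [HasZeroObject D] [∀ n : ℤ, (shiftFunctor D n).Additive] [Pretriangulated D] in
/-- Transport of a vanishing statement along the additivity of the shift. -/
lemma hom_zero_shift {A B : D} (s s' : ℤ) (hs : s + 1 = s')
    (h : ∀ ψ : A⟦s'⟧ ⟶ B, ψ = 0) (χ : (A⟦s⟧)⟦(1 : ℤ)⟧ ⟶ B) : χ = 0 := by
  rw [← cancel_epi ((shiftFunctorAdd' D s 1 s' hs).app A).hom, comp_zero]
  exact h _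

variable (X : ChainComplex D ℕ) (n : ℕ)

/-- The state of the inductive construction. -/
structure St (k : ℕ) where
  /-- object -/
  Y : D
  /-- map -/
  a : Y ⟶ X.X k
  lift : k < n → ∃ b : X.X (k + 1) ⟶ Y, b ≫ a = X.d (k + 1) k
  van : ∀ i : ℕ, k + 2 < i → i ≤ n → ∀ ψ : (X.X i)⟦(i : ℤ) - k - 2⟧ ⟶ Y, ψ = 0
  inj : k + 2 ≤ n → ∀ t : X.X (k + 2) ⟶ Y, t ≫ a = 0 → t = 0

variable {X n}

/-- One step. -/
structure Step {k : ℕ} (S : St X n k) where
  /-- next state -/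
  next : St X n (k + 1)
  /-- connecting map -/
  b : X.X (k + 1) ⟶ S.Y
  /-- boundary -/
  c : S.Y ⟶ next.Y⟦(1 : ℤ)⟧
  prop : k < n → Triangle.mk next.a b c ∈ distinguishedTriangles ∧ b ≫ S.a = X.d (k + 1) k

variable (hX : ∀ i j : ℕ, j + 2 < i → i ≤ n → ∀ φ : (X.X i)⟦(i : ℤ) - j - 2⟧ ⟶ X.X j, φ = 0)

include hX in
lemma nonempty_step {k : ℕ} (S : St X n k) : Nonempty (Step S) := by
  by_cases hk : k < n
  · obtain ⟨b, hb⟩ := S.lift hk
    obtain ⟨Y', a', c, hT⟩ := distinguished_cocone_triangle₁ b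
    refine ⟨⟨⟨Y', a', fun hk1 => ?_, fun i hi hin ψ => ?_, fun hk3 t ht => ?_⟩, b, c,
      fun _ => ⟨hT, hb⟩⟩⟩
    · have h0 : X.d (k + 2) (k + 1) ≫ b = 0 :=
        S.inj (by omega) _ (by rw [assoc, hb, X.d_comp_d])
      obtain ⟨b', hb'⟩ := Triangle.coyoneda_exact₂ _ hT _ h0
      exact ⟨b', hb'.symm⟩
    · refine eq_zero_of_comp_mor₁ a' b c hT ψ (hX i (k + 1) hi hin _) (fun χ => ?_)
      exact hom_zero_shift _ _ (by push_cast; omega) (S.van i (by omega) hin) χ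
    · refine eq_zero_of_comp_mor₁ a' b c hT t ht (fun χ => ?_)
      have h := S.van (k + 1 + 2) (by omega) (by omega)
      have hs : (((k + 1 + 2 : ℕ) : ℤ) - k - 2) = 1 := by push_cast; omega
      rw [hs] at h
      exact h χ
  · exact ⟨⟨⟨(0 : D), 0, fun h => absurd h (by omega), fun i hi hin => absurd hin (by omega),
      fun h => absurd h (by omega)⟩, 0, 0, fun h => absurd h hk⟩⟩

/-- The initial state. -/
def init (hX : ∀ i j : ℕ, j + 2 < i → i ≤ n → ∀ φ : (X.X i)⟦(i : ℤ) - j - 2⟧ ⟶ X.X j, φ = 0) :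
    St X n 0 where
  Y := X.X 0
  a := 𝟙 _
  lift _ := ⟨X.d 1 0, comp_id _⟩
  van i hi hin ψ := hX i 0 hi hin ψ
  inj _ t ht := by simpa using ht

/-- The sequence of states. -/
noncomputable def seq : ∀ k, St X n k
  | 0 => init hX
  | k + 1 => (nonempty_step hX (seq k)).some.next

include hX in
theorem exists_system :
    ∃ (Y : ℕ → D) (a : ∀ k, Y k ⟶ X.X k) (b : ∀ k, X.X (k + 1) ⟶ Y k)
      (c : ∀ k, Y k ⟶ (shiftFunctor D (1 : ℤ)).obj (Y (k + 1))),
      IsIso (a 0) ∧ ∀ k, k < n →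
        Triangle.mk (a (k + 1)) (b k) (c k) ∈ distinguishedTriangles ∧ b k ≫ a k = X.d (k + 1) k :=
  ⟨fun k => (seq hX k).Y, fun k => (seq hX k).a, fun k => (nonempty_step hX (seq hX k)).some.b,
    fun k => (nonempty_step hX (seq hX k)).some.c, inferInstanceAs (IsIso (𝟙 (X.X 0))),
    fun k hk => (nonempty_step hX (seq hX k)).some.prop hk⟩

end CohDerLib.Postnikov
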