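import Groth.Prelude.Def_DerCA
import Mathlib.CategoryTheory.Triangulated.Pretriangulated
import Mathlib.CategoryTheory.Functor.OfSequence

/-!
# Inverse systems over `ℕ` in a pretriangulated category
-/

universe v' u' v u
open CategoryTheory Category Limits Opposite Pretriangulated

namespace CohDerLib.ProSys

section General

variable {C : Type u} [Category.{v} C]

lemma tr_trans (X : ARSys.PS C) {i j k : ℕ} (h₁ : i ≤ j) (h₂ : j ≤ k) :
    ARSys.tr X h₂ ≫ ARSys.tr X h₁ = ARSys.tr X (h₁.trans h₂) := by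
  simp only [ARSys.tr, ← Functor.map_comp]; rfl

lemma tr_trans_assoc (X : ARSys.PS C) {i j k : ℕ} (h₁ : i ≤ j) (h₂ : j ≤ k) {W : C}
    (φ : X.obj (op i) ⟶ W) :
    ARSys.tr X h₂ ≫ ARSys.tr X h₁ ≫ φ = ARSys.tr X (h₁.trans h₂) ≫ φ := by
  rw [← assoc, tr_trans]

lemma tr_self (X : ARSys.PS C) (i : ℕ) : ARSys.tr X (le_refl i) = 𝟙 _ := X.map_id (op i)

lemma cone_tr {X : ARSys.PS C} {A : C} (c : (Functor.const ℕᵒᵖ).obj A ⟶ X) {i j : ℕ} (h : i ≤ j) :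
    c.app (op j) ≫ ARSys.tr X h = c.app (op i) := by
  have e := c.naturality (homOfLE h).op
  simp only [Functor.const_obj_map] at e
  exact e.symm.trans (id_comp _)

/-- `s : X_N ⟶ L` exhibits `L` as the colimit of the representable functors `Hom(X_n, -)`. -/
def Exhibits (X : ARSys.PS C) (L : C) (N : ℕ) (s : X.obj (op N) ⟶ L) : Prop :=
  (∀ (W : C) (u u' : L ⟶ W) (k : ℕ) (hk : N ≤ k),
      ARSys.tr X hk ≫ s ≫ u = ARSys.tr X hk ≫ s ≫ u' → u = u') ∧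
  (∀ (W : C) (j : ℕ) (φ : X.obj (op j) ⟶ W), ∃ (k : ℕ) (hj : j ≤ k) (hN : N ≤ k) (u : L ⟶ W),
      ARSys.tr X hj ≫ φ = ARSys.tr X hN ≫ s ≫ u)

theorem exists_cone_of_exhibits {X : ARSys.PS C} {L : C} {N : ℕ} {s : X.obj (op N) ⟶ L}
    (h : Exhibits X L N s) :
    ∃ c : (Functor.const ℕᵒᵖ).obj L ⟶ X, DerCA.IsEssConstant X L c ∧ c.app (op N) ≫ s = 𝟙 L := by
  choose k hj hN u hu using fun j => h.2 _ j (𝟙 (X.obj (op j)))
  simp only [comp_id] at hu
  have hnat : ∀ {i j : ℕ} (hij : i ≤ j), u j ≫ ARSys.tr X hij = u i := by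
    intro i j hij
    let K := max (k i) (k j)
    have hi : k i ≤ K := le_max_left _ _
    have hjK : k j ≤ K := le_max_right _ _
    refine h.1 _ _ _ K ((hN i).trans hi) ?_
    have e1 : ARSys.tr X ((hN i).trans hi) ≫ s ≫ u i = ARSys.tr X ((hj i).trans hi) := by
      rw [← tr_trans_assoc X (hN i) hi, ← hu i, tr_trans]
    have e2 : ARSys.tr X ((hN i).trans hi) ≫ s ≫ u j = ARSys.tr X ((hj j).trans hjK) := by
      rw [show ARSys.tr X ((hN i).trans hi) = ARSys.tr X ((hN j).trans hjK) from rfl,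
        ← tr_trans_assoc X (hN j) hjK, ← hu j, tr_trans]
    rw [e1, ← assoc s, ← assoc (ARSys.tr X _), e2, tr_trans]
  let c : (Functor.const ℕᵒᵖ).obj L ⟶ X :=
    { app := fun n => u n.unop
      naturality := fun n m f => by
        simp only [Functor.const_obj_map]
        exact (id_comp _).trans (hnat (leOfHom f.unop)).symm }
  have hs : u N ≫ s = 𝟙 L := by
    refine h.1 _ _ _ (k N) (hN N) ?_
    rw [comp_id, ← assoc s, ← assoc (ARSys.tr X _), ← hu N]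
  exact ⟨c, ⟨N, s, hs, fun j => ⟨k j, hN j, hj j, hu j⟩⟩, hs⟩

theorem exhibits_of_isEssConstant {X : ARSys.PS C} {A : C}
    {c : (Functor.const ℕᵒᵖ).obj A ⟶ X} (h : DerCA.IsEssConstant X A c) :
    ∃ (i : ℕ) (s : X.obj (op i) ⟶ A), ∀ (N : ℕ) (hN : i ≤ N),
      Exhibits X A N (ARSys.tr X hN ≫ s) ∧ c.app (op N) ≫ ARSys.tr X hN ≫ s = 𝟙 A := by
  obtain ⟨i, s, hs, hf⟩ := h
  refine ⟨i, s, fun N hN => ?_⟩
  have e : ∀ {k : ℕ} (hk : i ≤ k), c.app (op k) ≫ ARSys.tr X hk ≫ s = 𝟙 A := fun hk => by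
    rw [← assoc, cone_tr, hs]
  refine ⟨⟨fun W u u' k hk he => ?_, fun W j φ => ?_⟩, e hN⟩
  · simp only [assoc, tr_trans_assoc] at he
    have h2 := congrArg (fun ψ => c.app (op k) ≫ ψ) he
    simp only [← assoc] at h2
    simp only [assoc, cone_tr] at h2
    rw [← assoc, ← assoc, hs] at h2
    exact (id_comp u).symm.trans (h2.trans (id_comp u'))
  · obtain ⟨k, hi, hj, he⟩ := hf j
    refine ⟨max k N, hj.trans (le_max_left _ _), le_max_right _ _, c.app (op j) ≫ φ, ?_⟩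
    simp only [assoc, tr_trans_assoc]
    rw [← tr_trans_assoc X hj (le_max_left k N) φ, ← assoc (ARSys.tr X (le_max_left k N)),
      ← assoc, assoc (ARSys.tr X (le_max_left k N)), he]
    simp only [assoc, tr_trans_assoc]

theorem isEssConstant_map {D : Type u'} [Category.{v'} D] (F : C ⥤ D) {X : ARSys.PS C} {A : C}
    {c : (Functor.const ℕᵒᵖ).obj A ⟶ X} (h : DerCA.IsEssConstant X A c) :
    ∃ c' : (Functor.const ℕᵒᵖ).obj (F.obj A) ⟶ X ⋙ F,
      DerCA.IsEssConstant (X ⋙ F) (F.obj A) c' ∧ ∀ n, c'.app n = F.map (c.app n) := by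
  let c' : (Functor.const ℕᵒᵖ).obj (F.obj A) ⟶ X ⋙ F :=
    { app := fun n => F.map (c.app n)
      naturality := fun n m f => by
        have e := c.naturality f
        simp only [Functor.const_obj_map] at e
        simp only [Functor.const_obj_map, Functor.comp_map, ← F.map_comp]
        exact (id_comp _).trans (congrArg F.map ((id_comp _).symm.trans e)) }
  obtain ⟨i, s, hs, hf⟩ := h
  refine ⟨c', ⟨i, F.map s, ?_, fun j => ?_⟩, fun _ => rfl⟩
  · rw [show c'.app (op i) = F.map (c.app (op i)) from rfl, ← F.map_comp, hs]; exact F.map_id A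
  · obtain ⟨k, hi, hj, e⟩ := hf j
    refine ⟨k, hi, hj, ?_⟩
    simp only [ARSys.tr, Functor.comp_map] at e ⊢
    rw [e, F.map_comp, F.map_comp]

end General

section Triangulated

variable {D : Type u} [Category.{v} D] [Preadditive D] [HasZeroObject D] [HasShift D ℤ]
  [∀ n : ℤ, (shiftFunctor D n).Additive] [Pretriangulated D]

/-- If the outer terms of a system of distinguished triangles are essentially constant, so is the
middle one. -/
theorem isEssConstant_middle {X' X X'' : ARSys.PS D} (ι : X' ⟶ X) (π : X ⟶ X'')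
    (h : X'' ⟶ X' ⋙ shiftFunctor D (1 : ℤ))
    (hT : ∀ n : ℕ, Triangle.mk (ι.app (op n)) (π.app (op n)) (h.app (op n)) ∈ distinguishedTriangles)
    (hX' : ∃ (A : D) (c : (Functor.const ℕᵒᵖ).obj A ⟶ X'), DerCA.IsEssConstant X' A c)
    (hX'' : ∃ (A : D) (c : (Functor.const ℕᵒᵖ).obj A ⟶ X''), DerCA.IsEssConstant X'' A c) :
    ∃ (L : D) (c : (Functor.const ℕᵒᵖ).obj L ⟶ X), DerCA.IsEssConstant X L c := by
  obtain ⟨A, cA, hA⟩ := hX'
  obtain ⟨B, cB, hB⟩ := hX''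
  obtain ⟨iA, sA₀, hsA⟩ := exhibits_of_isEssConstant hA
  obtain ⟨iB, sB₀, hsB⟩ := exhibits_of_isEssConstant hB
  let N₀ := max iA iB
  obtain ⟨⟨-, hBsurj₀⟩, -⟩ := hsB N₀ (le_max_right _ _)
  obtain ⟨N, hN, _, δ, hδ⟩ := hBsurj₀ _ N₀
    (h.app (op N₀) ≫ (ARSys.tr X' (le_max_left iA iB) ≫ sA₀)⟦(1 : ℤ)⟧')
  obtain ⟨⟨hAi, hAs⟩, -⟩ := hsA N ((le_max_left _ _).trans hN)
  obtain ⟨⟨hBi, hBs⟩, -⟩ := hsB N ((le_max_right _ _).trans hN)
  set sA := ARSys.tr X' ((le_max_left iA iB).trans hN) ≫ sA₀ with hsAdef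
  set sB := ARSys.tr X'' ((le_max_right iA iB).trans hN) ≫ sB₀ with hsBdef
  have hsq : h.app (op N) ≫ sA⟦(1 : ℤ)⟧' = sB ≫ δ := by
    have e := h.naturality (homOfLE hN).op
    rw [Functor.comp_map] at e
    rw [hsBdef, assoc]
    rw [assoc, tr_trans_assoc] at hδ
    rw [← hδ, hsAdef, ← tr_trans_assoc X' (le_max_left iA iB) hN, Functor.map_comp, ← assoc, ← e,
      assoc]
  obtain ⟨L, ιL, πL, hL⟩ := distinguished_cocone_triangle₂ δ
  obtain ⟨s, hs₁, hs₂⟩ : ∃ s : X.obj (op N) ⟶ L,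
      ι.app (op N) ≫ s = sA ≫ ιL ∧ π.app (op N) ≫ sB = s ≫ πL :=
    complete_distinguished_triangle_morphism₂
      (Triangle.mk (ι.app (op N)) (π.app (op N)) (h.app (op N))) (Triangle.mk ιL πL δ) (hT N) hL
      sA sB hsq
  obtain ⟨c₁, hc₁, -⟩ := isEssConstant_map (shiftFunctor D (1 : ℤ)) hA
  obtain ⟨iS, sS₀, hsS⟩ := exhibits_of_isEssConstant hc₁
  have hAshift : ∀ (W : D) (j : ℕ) (w : (X'.obj (op j))⟦(1 : ℤ)⟧ ⟶ W),
      ∃ (k : ℕ) (hj : j ≤ k) (hk : N ≤ k) (w₀ : A⟦(1 : ℤ)⟧ ⟶ W),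
        (ARSys.tr X' hj)⟦(1 : ℤ)⟧' ≫ w = (ARSys.tr X' hk)⟦(1 : ℤ)⟧' ≫ sA⟦(1 : ℤ)⟧' ≫ w₀ := by
    intro W j w
    obtain ⟨Wp, ⟨eW⟩⟩ : ∃ Wp : D, Nonempty (Wp⟦(1 : ℤ)⟧ ≅ W) :=
      ⟨(shiftFunctor D (1 : ℤ)).objPreimage W, ⟨(shiftFunctor D (1 : ℤ)).objObjPreimageIso W⟩⟩
    obtain ⟨w', hw'⟩ := (shiftFunctor D (1 : ℤ)).map_surjective (w ≫ eW.inv)
    obtain ⟨k, hj, hk, u, hu⟩ := hAs Wp j w'
    refine ⟨k, hj, hk, u⟦(1 : ℤ)⟧' ≫ eW.hom, ?_⟩
    have e := congrArg (fun ψ => ψ⟦(1 : ℤ)⟧' ≫ eW.hom) hu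
    simp only [Functor.map_comp, hw', assoc, Iso.inv_hom_id, comp_id] at e
    exact e
  have key : Exhibits X L N s := by
    refine ⟨fun W u u' k hk he => ?_, fun W j φ => ?_⟩
    · rw [← sub_eq_zero] at he ⊢
      rw [← Preadditive.comp_sub, ← Preadditive.comp_sub] at he
      set w := u - u'
      have h1 : ιL ≫ w = 0 := by
        refine hAi W _ _ k hk ?_
        rw [comp_zero, comp_zero, ← reassoc_of% hs₁, ← assoc, ← show ι.app (op k) ≫ ARSys.tr X hk =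
          ARSys.tr X' hk ≫ ι.app (op N) from (ι.naturality _).symm, assoc, he, comp_zero]
      obtain ⟨v, hv⟩ : ∃ v : B ⟶ W, w = πL ≫ v := Triangle.yoneda_exact₂ _ hL w h1
      have h2 : π.app (op k) ≫ ARSys.tr X'' hk ≫ sB ≫ v = 0 := by
        rw [← assoc, ← show ARSys.tr X hk ≫ π.app (op N) = π.app (op k) ≫ ARSys.tr X'' hk from
          π.naturality _, assoc, reassoc_of% hs₂, ← hv, he]
      obtain ⟨g, hg⟩ : ∃ g : (X'.obj (op k))⟦(1 : ℤ)⟧ ⟶ W,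
          ARSys.tr X'' hk ≫ sB ≫ v = h.app (op k) ≫ g := Triangle.yoneda_exact₃ _ (hT k) _ h2
      obtain ⟨k', hkk', hk', g₀, hg₀⟩ := hAshift W k g
      have hv0 : v = δ ≫ g₀ := by
        refine hBi W _ _ k' hk' ?_
        rw [← reassoc_of% hsq, ← tr_trans_assoc X'' hk hkk']
        rw [show (ARSys.tr X'' hk ≫ sB ≫ v) = h.app (op k) ≫ g from hg]
        have e1 := h.naturality (homOfLE hkk').op
        have e2 := h.naturality (homOfLE hk').op
        rw [Functor.comp_map] at e1 e2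
        rw [reassoc_of% e1, hg₀, ← reassoc_of% e2]
      have e23 : πL ≫ δ = 0 := comp_distTriang_mor_zero₂₃ _ hL
      rw [hv, hv0, reassoc_of% e23, zero_comp]
    · obtain ⟨k, hkj, hkN, u', hu'⟩ := hAs W j (ι.app (op j) ≫ φ)
      have h3 : ι.app (op k) ≫ ARSys.tr X hkj ≫ φ = ARSys.tr X' hkN ≫ sA ≫ u' := by
        rw [← hu', ← assoc, ← assoc]
        exact congrArg (· ≫ φ) (ι.naturality _).symm
      obtain ⟨u₀, hu₀⟩ : ∃ u₀ : L ⟶ W, ιL ≫ u₀ = u' := by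
        have h4 : δ ≫ u'⟦(1 : ℤ)⟧' = 0 := by
          refine hBi _ _ _ k hkN ?_
          rw [comp_zero, comp_zero, ← reassoc_of% hsq]
          have e := h.naturality (homOfLE hkN).op
          rw [Functor.comp_map] at e
          rw [reassoc_of% e, ← Functor.map_comp, ← Functor.map_comp, ← h3, Functor.map_comp]
          have e0 : h.app (op k) ≫ (ι.app (op k))⟦(1 : ℤ)⟧' = 0 :=
            comp_distTriang_mor_zero₃₁ _ (hT k)
          rw [reassoc_of% e0, zero_comp]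
        obtain ⟨g, hg⟩ : ∃ g : L⟦(1 : ℤ)⟧ ⟶ W⟦(1 : ℤ)⟧, u'⟦(1 : ℤ)⟧' = (-ιL⟦(1 : ℤ)⟧') ≫ g :=
          Triangle.yoneda_exact₂ _ (rot_of_distTriang _ (rot_of_distTriang _ hL)) _ h4
        obtain ⟨u₀, rfl⟩ := (shiftFunctor D (1 : ℤ)).map_surjective g
        refine ⟨-u₀, (shiftFunctor D (1 : ℤ)).map_injective ?_⟩
        rw [hg, Preadditive.comp_neg, Functor.map_neg, Functor.map_comp, Preadditive.neg_comp]
      have h5 : ι.app (op k) ≫ (ARSys.tr X hkj ≫ φ - ARSys.tr X hkN ≫ s ≫ u₀) = 0 := by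
        rw [Preadditive.comp_sub, h3, ← hu₀, ← reassoc_of% hs₁,
          show ι.app (op k) ≫ ARSys.tr X hkN ≫ s ≫ u₀ = ARSys.tr X' hkN ≫ ι.app (op N) ≫ s ≫ u₀ from
            (ι.naturality_assoc (homOfLE hkN).op (s ≫ u₀)).symm,
          sub_self]
      obtain ⟨ψ, hψ⟩ : ∃ ψ : X''.obj (op k) ⟶ W,
          ARSys.tr X hkj ≫ φ - ARSys.tr X hkN ≫ s ≫ u₀ = π.app (op k) ≫ ψ :=
        Triangle.yoneda_exact₂ _ (hT k) _ h5
      obtain ⟨k', hkk', hk'N, v, hv⟩ := hBs W k ψ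
      refine ⟨k', hkj.trans hkk', hk'N, u₀ + πL ≫ v, ?_⟩
      have e : ARSys.tr X hkk' ≫ (π.app (op k) ≫ ψ) = ARSys.tr X hk'N ≫ s ≫ πL ≫ v := by
        rw [← reassoc_of% hs₂, ← assoc (ARSys.tr X hk'N), ← assoc (ARSys.tr X hkk'),
          show ARSys.tr X hkk' ≫ π.app (op k) = π.app (op k') ≫ ARSys.tr X'' hkk' from π.naturality _,
          show ARSys.tr X hk'N ≫ π.app (op N) = π.app (op k') ≫ ARSys.tr X'' hk'N from π.naturality _,
          assoc, assoc, hv]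
      rw [← hψ, Preadditive.comp_sub, tr_trans_assoc, tr_trans_assoc, sub_eq_iff_eq_add] at e
      rw [e, Preadditive.comp_add, Preadditive.comp_add, add_comm]
  obtain ⟨c, hc, -⟩ := exists_cone_of_exhibits key
  exact ⟨L, c, hc⟩

end Triangulated

end CohDerLib.ProSys
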