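import Groth.Agent.KFlat.CxAdj
import Mathlib.CategoryTheory.Localization.Adjunction
import Mathlib.CategoryTheory.Localization.Composition
import Mathlib.CategoryTheory.Adjunction.Additive
import Mathlib.CategoryTheory.Abelian.SerreClass.Localization
import Mathlib.Algebra.Homology.DerivedCategory.ExactFunctor
import Mathlib.Algebra.Homology.DerivedCategory.Fractions
import Mathlib.Algebra.Homology.ShortComplex.ExactFunctor

/-!
# Derived categories of a quotient abelian category with a section
-/

universe w w' v v' u u'

open CategoryTheory CategoryTheory.Limits CategoryTheory.Pretriangulated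

namespace Groth.Agent.CohDerLib.QuotientSection

variable {A : Type u} [Category.{v} A] [Abelian A] [HasDerivedCategory.{w} A]
  {Q : Type u'} [Category.{v'} Q] [Abelian Q] [HasDerivedCategory.{w'} Q]

lemma isZero_Q_obj_iff (K : CochainComplex A ℤ) :
    IsZero (DerivedCategory.Q.obj K) ↔ ∀ n, IsZero (K.homology n) := by
  constructor
  · intro h n
    exact ((DerivedCategory.homologyFunctor A n).map_isZero h).of_iso
      ((DerivedCategory.homologyFunctorFactors A n).app K).symm
  · intro h
    let O : CochainComplex A ℤ := HomologicalComplex.zero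
    have hO : IsZero O := HomologicalComplex.isZero_zero
    have : QuasiIso (0 : K ⟶ O) := ⟨fun n => by
      rw [quasiIsoAt_iff_isIso_homologyMap]
      exact ⟨0, (h n).eq_of_src _ _,
        ((HomologicalComplex.homologyFunctor A (ComplexShape.up ℤ) n).map_isZero hO).eq_of_src
          _ _⟩⟩
    exact (DerivedCategory.Q.map_isZero hO).of_iso (asIso (DerivedCategory.Q.map (0 : K ⟶ O)))

variable (P : ObjectProperty A) [P.IsSerreClass] (v : A ⥤ Q) [v.IsLocalization P.isoModSerre]
  [v.Additive] [PreservesFiniteLimits v] [PreservesFiniteColimits v]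

/-- objects of `D(A)` with cohomology in `P` -/
def homP : ObjectProperty (DerivedCategory A) :=
  fun X => ∀ n : ℤ, P ((DerivedCategory.homologyFunctor A n).obj X)

lemma isZero_map_iff (Z : DerivedCategory A) :
    IsZero (v.mapDerivedCategory.obj Z) ↔ homP P Z := by
  let K := DerivedCategory.Q.objPreimage Z
  let e : DerivedCategory.Q.obj K ≅ Z := DerivedCategory.Q.objObjPreimageIso Z
  let e' : v.mapDerivedCategory.obj Z ≅
      DerivedCategory.Q.obj ((v.mapHomologicalComplex (ComplexShape.up ℤ)).obj K) :=
    v.mapDerivedCategory.mapIso e.symm ≪≫ v.mapDerivedCategoryFactors.app K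
  rw [e'.isZero_iff, isZero_Q_obj_iff]
  refine forall_congr' fun n => ?_
  rw [← ObjectProperty.SerreClassLocalization.isZero_obj_iff v P]
  exact Iso.isZero_iff ((K.sc n).mapHomologyIso v ≪≫
    v.mapIso (((DerivedCategory.homologyFunctorFactors A n).app K).symm ≪≫
      (DerivedCategory.homologyFunctor A n).mapIso e))

lemma trW_eq :
    (homP P).trW = (MorphismProperty.isomorphisms (DerivedCategory Q)).inverseImage
      v.mapDerivedCategory := by
  ext X Y f
  constructor
  · rintro ⟨Z, g, h, hT, hZ⟩
    have hZ' : IsZero (v.mapDerivedCategory.obj Z) := (isZero_map_iff P v Z).2 hZ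
    exact (Triangle.isZero₃_iff_isIso₁ _ (v.mapDerivedCategory.map_distinguished _ hT)).1 hZ'
  · intro hf
    obtain ⟨Z, g, h, hT⟩ := distinguished_cocone_triangle f
    have hZ : IsZero (v.mapDerivedCategory.obj Z) :=
      (Triangle.isZero₃_iff_isIso₁ _ (v.mapDerivedCategory.map_distinguished _ hT)).2 hf
    exact ⟨Z, g, h, hT, (isZero_map_iff P v Z).1 hZ⟩

theorem isLocalization (u : Q ⥤ A) (adj : u ⊣ v) [IsIso adj.unit] :
    v.mapDerivedCategory.IsLocalization (homP P).trW := by
  have hadd : u.Additive := adj.left_adjoint_additive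
  let adjC := KFlat.CxAdj.mapCx adj (ComplexShape.up ℤ)
  let v' := v.mapHomologicalComplex (ComplexShape.up ℤ)
  let u' := u.mapHomologicalComplex (ComplexShape.up ℤ)
  have : IsIso adjC.unit := by
    have : ∀ K, IsIso (adjC.unit.app K) := fun K => by
      have : ∀ i, IsIso ((adjC.unit.app K).f i) := fun i =>
        (inferInstance : IsIso (adj.unit.app (K.X i)))
      exact HomologicalComplex.Hom.isIso_of_components _
    exact NatIso.isIso_of_isIso_app _
  have := adjC.fullyFaithfulLOfIsIsoUnit.full
  have := adjC.fullyFaithfulLOfIsIsoUnit.faithful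
  have : v'.IsLocalization ((MorphismProperty.isomorphisms _).inverseImage v') :=
    adjC.isLocalization'
  let W₃ : MorphismProperty (CochainComplex A ℤ) :=
    (HomologicalComplex.quasiIso Q (ComplexShape.up ℤ)).inverseImage v'
  have hcomp : (v' ⋙ (DerivedCategory.Q : _ ⥤ DerivedCategory Q)).IsLocalization W₃ := by
    refine Functor.IsLocalization.comp v' DerivedCategory.Q
      ((MorphismProperty.isomorphisms _).inverseImage v')
      (HomologicalComplex.quasiIso Q (ComplexShape.up ℤ)) W₃
      (fun X Y f hf => Localization.inverts DerivedCategory.Q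
        (HomologicalComplex.quasiIso Q (ComplexShape.up ℤ)) _ hf) ?_ ?_
    · intro X Y f (hf : IsIso (v'.map f))
      show HomologicalComplex.quasiIso Q _ (v'.map f)
      rw [HomologicalComplex.mem_quasiIso_iff]
      infer_instance
    · intro K L f hf
      have e : Arrow.mk (v'.map (u'.map f)) ≅ Arrow.mk f :=
        (Arrow.isoMk' f (v'.map (u'.map f)) ((asIso adjC.unit).app K) ((asIso adjC.unit).app L)
          (adjC.unit.naturality f).symm).symm
      exact ⟨_, _, u'.map f,
        ((HomologicalComplex.quasiIso Q (ComplexShape.up ℤ)).arrow_mk_iso_iff e).2 hf, ⟨e⟩⟩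
  have : (DerivedCategory.Q ⋙ v.mapDerivedCategory).IsLocalization W₃ :=
    Functor.IsLocalization.of_iso W₃ v.mapDerivedCategoryFactors.symm
  have hiso : ∀ {K L : CochainComplex A ℤ} (a : K ⟶ L),
      IsIso (v.mapDerivedCategory.map (DerivedCategory.Q.map a)) ↔ W₃ a := fun a => by
    rw [show IsIso (v.mapDerivedCategory.map (DerivedCategory.Q.map a)) ↔
      IsIso (DerivedCategory.Q.map (v'.map a)) from
        NatIso.isIso_map_iff v.mapDerivedCategoryFactors a,
      DerivedCategory.isIso_Q_map_iff_quasiIso]
    exact (HomologicalComplex.mem_quasiIso_iff _).symm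
  refine Functor.IsLocalization.of_comp DerivedCategory.Q v.mapDerivedCategory
    (HomologicalComplex.quasiIso A (ComplexShape.up ℤ)) _ W₃ ?_ ?_
  · intro K L f hf
    rw [← hiso]
    have : IsIso (DerivedCategory.Q.map f) :=
      Localization.inverts DerivedCategory.Q (HomologicalComplex.quasiIso A (ComplexShape.up ℤ)) _ hf
    infer_instance
  · rw [trW_eq P v]
    refine le_antisymm (fun X Y f (hf : IsIso (v.mapDerivedCategory.map f)) => ?_) ?_
    · let eX := DerivedCategory.Q.objObjPreimageIso X
      let eY := DerivedCategory.Q.objObjPreimageIso Y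
      obtain ⟨L', a, s, hs, hfac⟩ := DerivedCategory.left_fac (eX.hom ≫ f ≫ eY.inv)
      have hd : f = eX.inv ≫ (DerivedCategory.Q.map a ≫ inv (DerivedCategory.Q.map s)) ≫ eY.hom := by
        simp [← hfac]
      let e : Arrow.mk (DerivedCategory.Q.map a) ≅ Arrow.mk f :=
        Arrow.isoMk' (DerivedCategory.Q.map a) f eX ((asIso (DerivedCategory.Q.map s)).symm ≪≫ eY)
          (by simp [hd])
      refine ⟨_, _, a, (hiso a).1 ?_, ⟨e⟩⟩
      exact ((((MorphismProperty.isomorphisms _).inverseImage
        v.mapDerivedCategory)).arrow_mk_iso_iff e).2 hf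
    · rw [MorphismProperty.map_le_iff]
      exact fun K L a ha => (hiso a).2 ha

end Groth.Agent.CohDerLib.QuotientSection
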