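import Groth.Agent.CohTop.Flasque
import Groth.Prelude.Def_CohCx
import Mathlib.Algebra.Homology.HomologicalComplexAbelian
import Mathlib.Algebra.Homology.HomologySequence
import Mathlib.Algebra.Homology.CommSq
import Mathlib.CategoryTheory.Abelian.CommSq
import Mathlib.Algebra.Homology.HomologicalComplexBiprod
import Mathlib.Topology.Sheaves.SheafCondition.PairwiseIntersections

/-!
# Relative Mayer-Vietoris
-/

set_option backward.isDefEq.respectTransparency.types false
set_option backward.isDefEq.respectTransparency false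

universe u

open CategoryTheory CategoryTheory.Limits TopologicalSpace Opposite

namespace Groth.Agent.CohDerLib.RelMV

variable {X Y : TopCat.{u}}

lemma isPullback_restr (G : CohTop.Ab X) {A B C D : Opens X} (hA : A = B ⊔ C) (hD : D = B ⊓ C)
    (iB : B ⟶ A) (iC : C ⟶ A) (jB : D ⟶ B) (jC : D ⟶ C) :
    IsPullback (G.obj.map iB.op) (G.obj.map iC.op) (G.obj.map jB.op) (G.obj.map jC.op) := by
  subst hA hD
  exact IsPullback.of_isLimit (TopCat.Sheaf.isLimitPullbackCone G B C)

variable (f : X ⟶ Y) (U V : Opens X)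

/-- the restriction of sections to `U` followed by push-forward -/
noncomputable abbrev G : CohTop.Ab X ⥤ CohTop.Ab Y :=
  CohTop.restrFunctor U ⋙ CohTop.push (CohCx.incl U ≫ f)

/-- the four maps -/
noncomputable abbrev αU : CohTop.push f ⟶ G f U := CohCx.pushToRestrPush f U
noncomputable abbrev βU : G f U ⟶ G f (U ⊓ V) :=
  CohCx.restrPushToRestrPush f (inf_le_left : U ⊓ V ≤ U)
noncomputable abbrev βV : G f V ⟶ G f (U ⊓ V) :=
  CohCx.restrPushToRestrPush f (inf_le_right : U ⊓ V ≤ V)

variable {U V}

lemma isPullback_push (hUV : U ⊔ V = ⊤) (F : CohTop.Ab X) :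
    IsPullback ((αU f U).app F) ((αU f V).app F) ((βU f U V).app F) ((βV f U V).app F) := by
  refine IsPullback.of_map_of_faithful (sheafToPresheaf _ _)
    (IsPullback.of_forall_isPullback_app fun W => ?_)
  refine isPullback_restr F ?_ ?_ _ _ _ _
  · ext x
    have hx : x ∈ (⊤ : Opens X) := trivial
    rw [← hUV] at hx
    constructor
    · intro h
      rcases hx with hxU | hxV
      · exact Or.inl ⟨⟨x, hxU⟩, h, rfl⟩
      · exact Or.inr ⟨⟨x, hxV⟩, h, rfl⟩
    · rintro (⟨y, hy, rfl⟩ | ⟨y, hy, rfl⟩) <;> exact hy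
  · ext x
    constructor
    · rintro ⟨y, hy, rfl⟩
      exact ⟨⟨⟨y.1, y.2.1⟩, hy, rfl⟩, ⟨⟨y.1, y.2.2⟩, hy, rfl⟩⟩
    · rintro ⟨⟨y, hy, rfl⟩, ⟨z, _, hz'⟩⟩
      exact ⟨⟨y.1, y.2, (show (z : X) = (y : X) from hz') ▸ z.2⟩, hy, rfl⟩

lemma epi_restrPush (U V : Opens X) (F : CohTop.Ab X) [Injective F] : Epi ((βU f U V).app F) := by
  have := Groth.Agent.CohTop.Flasque.isFlasque_of_injective F
  refine (sheafToPresheaf _ AddCommGrpCat.{u}).epi_of_epi_map ?_
  have : ∀ W, Epi (((sheafToPresheaf _ AddCommGrpCat.{u}).map ((βU f U V).app F)).app W) := fun W =>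
    TopCat.Presheaf.IsFlasque.epi (F := F.obj) _
  exact NatTrans.epi_of_epi_app _

variable (U V)

/-- the short complex of complexes -/
noncomputable def sc (I : CochainComplex (CohTop.Ab X) ℕ) : ShortComplex (CochainComplex (CohTop.Ab Y) ℕ) :=
  ShortComplex.mk
    (biprod.lift ((NatTrans.mapHomologicalComplex (αU f U) _).app I)
      ((NatTrans.mapHomologicalComplex (αU f V) _).app I))
    (biprod.desc ((NatTrans.mapHomologicalComplex (βU f U V) _).app I)
      (-(NatTrans.mapHomologicalComplex (βV f U V) _).app I))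
    (by
      rw [biprod.lift_desc, Preadditive.comp_neg, add_neg_eq_zero]
      ext k : 1
      exact NatTrans.congr_app (show αU f U ≫ βU f U V = αU f V ≫ βV f U V by
        ext F : 2
        apply Sheaf.hom_ext
        ext W : 2
        change F.obj.map _ ≫ F.obj.map _ = F.obj.map _ ≫ F.obj.map _
        rw [← F.obj.map_comp, ← F.obj.map_comp]
        rfl) (I.X k))

variable {U V}

lemma shortExact_sc (hUV : U ⊔ V = ⊤) (I : CochainComplex (CohTop.Ab X) ℕ)
    (hI : ∀ k, Injective (I.X k)) : (sc f U V I).ShortExact := by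
  refine HomologicalComplex.shortExact_of_degreewise_shortExact _ fun k => ?_
  have := hI k
  have h := isPullback_push f hUV (I.X k)
  have : Epi ((βU f U V).app (I.X k)) := epi_restrPush f U V (I.X k)
  have hS : h.shortComplex'.ShortExact :=
    { exact := h.exact_shortComplex'
      mono_f := h.mono_shortComplex'_f
      epi_g := epi_of_epi_fac (show biprod.inl ≫ h.shortComplex'.g = (βU f U V).app (I.X k) from
        biprod.inl_desc _ _) }
  refine ShortComplex.shortExact_of_iso ?_ hS
  refine ShortComplex.isoMk (Iso.refl _)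
    ((HomologicalComplex.eval (CohTop.Ab Y) (ComplexShape.up ℕ) k).mapBiprod
      (((G f U).mapHomologicalComplex _).obj I) (((G f V).mapHomologicalComplex _).obj I)).symm (Iso.refl _) ?_ ?_
  · refine (Category.id_comp _).trans ((Iso.eq_comp_inv _).2 ?_)
    exact biprod.map_lift_mapBiprod (HomologicalComplex.eval (CohTop.Ab Y) (ComplexShape.up ℕ) k) _ _ _ _
  · refine Eq.trans ?_ (Category.comp_id _).symm
    exact biprod.mapBiprod_inv_map_desc (HomologicalComplex.eval (CohTop.Ab Y) (ComplexShape.up ℕ) k) _ _ _ _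

theorem result (hUV : U ⊔ V = ⊤) (F : CohTop.Ab X) :
    ∃ δ : ∀ n : ℕ, (CohCx.RpushOn f (U ⊓ V) n).obj F ⟶ (CohTop.Rpush f (n + 1)).obj F,
      Mono (biprod.lift ((NatTrans.rightDerived (CohCx.pushToRestrPush f U) 0).app F)
        ((NatTrans.rightDerived (CohCx.pushToRestrPush f V) 0).app F)) ∧
      ∀ n : ℕ,
        (ComposableArrows.mk₂
          (biprod.lift ((NatTrans.rightDerived (CohCx.pushToRestrPush f U) n).app F)
            ((NatTrans.rightDerived (CohCx.pushToRestrPush f V) n).app F))
          (biprod.desc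
            ((NatTrans.rightDerived (CohCx.restrPushToRestrPush f (inf_le_left : U ⊓ V ≤ U)) n).app F)
            (-((NatTrans.rightDerived (CohCx.restrPushToRestrPush f (inf_le_right : U ⊓ V ≤ V)) n).app F)))).Exact ∧
        (ComposableArrows.mk₂
          (biprod.desc
            ((NatTrans.rightDerived (CohCx.restrPushToRestrPush f (inf_le_left : U ⊓ V ≤ U)) n).app F)
            (-((NatTrans.rightDerived (CohCx.restrPushToRestrPush f (inf_le_right : U ⊓ V ≤ V)) n).app F)))
          (δ n)).Exact ∧
        (ComposableArrows.mk₂ (δ n)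
          (biprod.lift ((NatTrans.rightDerived (CohCx.pushToRestrPush f U) (n + 1)).app F)
            ((NatTrans.rightDerived (CohCx.pushToRestrPush f V) (n + 1)).app F))).Exact := by
  let P : InjectiveResolution F := injectiveResolution F
  have hS := shortExact_sc f hUV P.cocomplex (fun k => P.injective k)
  let H := fun n => HomologicalComplex.homologyFunctor (CohTop.Ab Y) (ComplexShape.up ℕ) n
  have : ∀ n, (H n).Additive := fun n => inferInstance
  have := fun n => Functor.preservesFiniteBiproductsOfAdditive (H n)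
  have := fun n => preservesBinaryBiproducts_of_preservesBiproducts (H n)
  let e₁ := fun n => P.isoRightDerivedObj (CohTop.push f) n
  let e₂ : ∀ n, ((G f U).rightDerived n).obj F ⊞ ((G f V).rightDerived n).obj F ≅
      (H n).obj (sc f U V P.cocomplex).X₂ := fun n =>
    biprod.mapIso (P.isoRightDerivedObj (G f U) n) (P.isoRightDerivedObj (G f V) n) ≪≫
      ((H n).mapBiprod _ _).symm
  let e₃ := fun n => P.isoRightDerivedObj (G f (U ⊓ V)) n
  let L := fun n => biprod.lift ((NatTrans.rightDerived (αU f U) n).app F)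
    ((NatTrans.rightDerived (αU f V) n).app F)
  let D := fun n => biprod.desc ((NatTrans.rightDerived (βU f U V) n).app F)
    (-((NatTrans.rightDerived (βV f U V) n).app F))
  have hL : ∀ n, L n ≫ (e₂ n).hom = (e₁ n).hom ≫ (H n).map (sc f U V P.cocomplex).f := fun n => by
    refine Eq.trans (Category.assoc _ _ _).symm ((Iso.comp_inv_eq _).2 ?_)
    refine Eq.trans ?_ (Category.assoc _ _ _).symm
    erw [biprod.map_lift_mapBiprod]
    apply biprod.hom_ext <;>
      simp [L, H, e₁, InjectiveResolution.rightDerived_app_eq _ P n]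
  have hD : ∀ n, D n ≫ (e₃ n).hom = (e₂ n).hom ≫ (H n).map (sc f U V P.cocomplex).g := fun n => by
    refine Eq.trans ?_ (Category.assoc _ _ _).symm
    erw [biprod.mapBiprod_inv_map_desc]
    apply biprod.hom_ext' <;>
      simp [D, H, e₃, InjectiveResolution.rightDerived_app_eq _ P n]
  let δ := fun n : ℕ => (e₃ n).hom ≫ hS.δ n (n + 1) rfl ≫ (e₁ (n + 1)).inv
  refine ⟨δ, ?_, fun n => ⟨?_, ?_, ?_⟩⟩
  · have := hS.mono_f
    have : Mono ((sc f U V P.cocomplex).X₁.homologyπ 0 ≫
        HomologicalComplex.homologyMap (sc f U V P.cocomplex).f 0) := by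
      rw [HomologicalComplex.homologyπ_naturality]
      infer_instance
    have : Mono (HomologicalComplex.homologyMap (sc f U V P.cocomplex).f 0) := by
      have h2 := mono_comp (inv ((sc f U V P.cocomplex).X₁.homologyπ 0))
        ((sc f U V P.cocomplex).X₁.homologyπ 0 ≫
          HomologicalComplex.homologyMap (sc f U V P.cocomplex).f 0)
      rwa [IsIso.inv_hom_id_assoc] at h2
    have : Mono ((H 0).map (sc f U V P.cocomplex).f) := this
    have h : Mono (L 0 ≫ (e₂ 0).hom) := by rw [hL]; infer_instance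
    exact mono_of_mono (L 0) (e₂ 0).hom
  · have h0 : L n ≫ D n = 0 := by
      rw [← cancel_mono (e₃ n).hom, Category.assoc, hD, reassoc_of% hL n, ← Functor.map_comp,
        ShortComplex.zero, Functor.map_zero, comp_zero, zero_comp]
    exact ShortComplex.Exact.exact_toComposableArrows ((ShortComplex.exact_iff_of_iso
      (ShortComplex.isoMk (S₁ := ShortComplex.mk (L n) (D n) h0) (e₁ n) (e₂ n) (e₃ n)
        (hL n).symm (hD n).symm)).2 (hS.homology_exact₂ n))
  · have h0 : D n ≫ δ n = 0 := by
      simp only [δ, ← Category.assoc]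
      rw [hD, Category.assoc (e₂ n).hom]
      erw [hS.comp_δ]
      simp
    exact ShortComplex.Exact.exact_toComposableArrows ((ShortComplex.exact_iff_of_iso
      (ShortComplex.isoMk (S₁ := ShortComplex.mk (D n) (δ n) h0) (e₂ n) (e₃ n) (e₁ (n + 1))
        (hD n).symm (by simp [δ]))).2 (hS.homology_exact₃ n (n + 1) rfl))
  · have h0 : δ n ≫ L (n + 1) = 0 := by
      rw [← cancel_mono (e₂ (n + 1)).hom, Category.assoc, hL, zero_comp]
      simp only [δ, Category.assoc, Iso.inv_hom_id_assoc]
      erw [hS.δ_comp, comp_zero]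
    exact ShortComplex.Exact.exact_toComposableArrows ((ShortComplex.exact_iff_of_iso
      (ShortComplex.isoMk (S₁ := ShortComplex.mk (δ n) (L (n + 1)) h0) (e₃ n) (e₁ (n + 1)) (e₂ (n + 1))
        (by simp [δ]) (hL (n + 1)).symm)).2 (hS.homology_exact₁ n (n + 1) rfl))

end Groth.Agent.CohDerLib.RelMV
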