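import Groth.Agent.CohDerLib.SerreRes
import Mathlib.Algebra.Homology.FullSubcategory
import Mathlib.Algebra.Homology.DerivedCategory.ExactFunctor
import Mathlib.Algebra.Homology.DerivedCategory.Fractions
import Mathlib.Algebra.Homology.DerivedCategory.TStructure
import Mathlib.CategoryTheory.Abelian.Subcategory

/-!
# `D⁻(P) ⥤ D(A)` is fully faithful when `P` has enough lifts
-/

set_option backward.isDefEq.respectTransparency.types false

universe w w' v u

open CategoryTheory CategoryTheory.Limits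

namespace Groth.Agent.CohDerLib.SerreDMinus

variable {A : Type u} [Category.{v} A] [Abelian A]
  (P : ObjectProperty A) [P.IsSerreClass] [P.IsClosedUnderKernels] [P.IsClosedUnderCokernels]
  [P.IsClosedUnderFiniteProducts]

local notation "F" => P.ι.mapHomologicalComplex (ComplexShape.up ℤ)

omit [P.IsSerreClass] [P.IsClosedUnderKernels] [P.IsClosedUnderCokernels] [P.IsClosedUnderFiniteProducts] in
lemma exists_map_eq {L L' : CochainComplex P.FullSubcategory ℤ}
    (g : (F).obj L ⟶ (F).obj L') : ∃ g₀, (F).map g₀ = g :=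
  ⟨{ f := fun n => ObjectProperty.homMk (g.f n)
     comm' := fun i j _ => ObjectProperty.hom_ext _ (g.comm i j) },
    HomologicalComplex.hom_ext _ _ fun _ => rfl⟩

omit [P.IsSerreClass] [P.IsClosedUnderKernels] [P.IsClosedUnderCokernels] [P.IsClosedUnderFiniteProducts] in
lemma homotopy_of_map {L L' : CochainComplex P.FullSubcategory ℤ} {f g : L ⟶ L'}
    (h : Homotopy ((F).map f) ((F).map g)) : Nonempty (Homotopy f g) :=
  ⟨{ hom := fun i j => ObjectProperty.homMk (h.hom i j)
     zero := fun i j hij => ObjectProperty.hom_ext _ (h.zero i j hij)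
     comm := fun i => by
      apply ObjectProperty.hom_ext
      have := h.comm i
      rw [dNext_eq _ (show (ComplexShape.up ℤ).Rel i (i + 1) from rfl),
        prevD_eq _ (show (ComplexShape.up ℤ).Rel (i - 1) i by simp)] at this ⊢
      exact this }⟩

variable [PreservesFiniteLimits P.ι] [PreservesFiniteColimits P.ι]

lemma prop_homology (L : CochainComplex P.FullSubcategory ℤ) (n : ℤ) :
    P (((F).obj L).homology n) :=
  P.prop_of_iso ((L.sc n).mapHomologyIso P.ι).symm (L.homology n).property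

variable (hlift : ∀ (X Y : A) (π : X ⟶ Y), Epi π → P Y →
    ∃ (X' : A) (i : X' ⟶ X), Mono i ∧ P X' ∧ Epi (i ≫ π))

omit [P.IsClosedUnderKernels] [P.IsClosedUnderCokernels] [P.IsClosedUnderFiniteProducts] [PreservesFiniteLimits P.ι] [PreservesFiniteColimits P.ι] in
include hlift in
lemma exists_lift (K : CochainComplex A ℤ) (b : ℤ) [K.IsStrictlyLE b]
    (hK : ∀ n, P (K.homology n)) :
    ∃ (L : CochainComplex P.FullSubcategory ℤ) (_ : L.IsStrictlyLE b) (α : (F).obj L ⟶ K),
      QuasiIso α := by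
  obtain ⟨Q₀, α, hQ, hP, hα⟩ := SerreRes.exists_resolution (K := K) hlift hK b
  refine ⟨HomologicalComplex.liftObjectProperty P Q₀ hP, ?_, α, hα⟩
  rw [← CochainComplex.isStrictlyLE_mapHomologicalComplex_obj_iff _ P.ι]
  exact hQ

/-- a quasi-isomorphism into a complex in `P` can be refined to one coming from `P` -/
lemma exists_refine {L : CochainComplex P.FullSubcategory ℤ} {b : ℤ}
    {K : CochainComplex A ℤ} [K.IsStrictlyLE b] (s : K ⟶ (F).obj L) [QuasiIso s]
    (hlift : ∀ (X Y : A) (π : X ⟶ Y), Epi π → P Y →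
      ∃ (X' : A) (i : X' ⟶ X), Mono i ∧ P X' ∧ Epi (i ≫ π)) :
    ∃ (L₁ : CochainComplex P.FullSubcategory ℤ) (_ : L₁.IsStrictlyLE b)
      (α : (F).obj L₁ ⟶ K) (r₀ : L₁ ⟶ L), QuasiIso α ∧ QuasiIso r₀ ∧ (F).map r₀ = α ≫ s := by
  obtain ⟨L₁, hL₁, α, hα⟩ := exists_lift P hlift K b fun n =>
    P.prop_of_iso (isoOfQuasiIsoAt s n).symm (prop_homology P L n)
  obtain ⟨r₀, hr⟩ := exists_map_eq P (α ≫ s)
  refine ⟨L₁, hL₁, α, r₀, hα, ?_, hr⟩
  rw [← HomologicalComplex.quasiIso_map_iff_of_preservesHomology r₀ P.ι, hr]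
  infer_instance

variable [HasDerivedCategory.{w} A] [HasDerivedCategory.{w'} P.FullSubcategory]

open DerivedCategory

include hlift in
lemma full_aux {M N : CochainComplex P.FullSubcategory ℤ} (b : ℤ) [M.IsStrictlyLE b]
    (φ : P.ι.mapDerivedCategory.obj (Q.obj M) ⟶ P.ι.mapDerivedCategory.obj (Q.obj N)) :
    ∃ ψ, P.ι.mapDerivedCategory.map ψ = φ := by
  let e := P.ι.mapDerivedCategoryFactors
  have : CochainComplex.IsStrictlyLE ((F).obj M) b := by
    rw [CochainComplex.isStrictlyLE_mapHomologicalComplex_obj_iff]; infer_instance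
  obtain ⟨K, hK, s, hs, g, hfac⟩ :=
    right_fac_of_isStrictlyLE (e.inv.app M ≫ φ ≫ e.hom.app N) b
  have : QuasiIso s := (isIso_Q_map_iff_quasiIso _ s).1 hs
  obtain ⟨L, hL, α, r₀, hα, hr₀, hr⟩ := exists_refine P (b := b) s hlift
  obtain ⟨g₀, hg⟩ := exists_map_eq P (α ≫ g)
  have : IsIso (Q.map r₀) := (isIso_Q_map_iff_quasiIso _ r₀).2 hr₀
  refine ⟨inv (Q.map r₀) ≫ Q.map g₀, ?_⟩
  rw [Functor.map_comp, Functor.map_inv, IsIso.inv_comp_eq]
  have h1 : Q.map (α ≫ s) ≫ (e.inv.app M ≫ φ ≫ e.hom.app N) = Q.map (α ≫ g) := by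
    rw [hfac, Q.map_comp, Q.map_comp, Category.assoc, IsIso.hom_inv_id_assoc]
  have n1 := e.hom.naturality r₀
  have n2 := e.hom.naturality g₀
  simp only [Functor.comp_map] at n1 n2
  rw [hr] at n1
  rw [hg, ← h1, ← reassoc_of% n1, Iso.hom_inv_id_app_assoc] at n2
  rw [← cancel_mono (e.hom.app N), n2, Category.assoc]

include hlift in
lemma faithful_aux {M N : CochainComplex P.FullSubcategory ℤ} (b : ℤ) [M.IsStrictlyLE b]
    (ψ : Q.obj M ⟶ Q.obj N) (hψ : P.ι.mapDerivedCategory.map ψ = 0) : ψ = 0 := by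
  let e := P.ι.mapDerivedCategoryFactors
  obtain ⟨L, hL, s₀, hs₀, g₀, rfl⟩ := right_fac_of_isStrictlyLE ψ b
  have : CochainComplex.IsStrictlyLE ((F).obj L) b := by
    rw [CochainComplex.isStrictlyLE_mapHomologicalComplex_obj_iff]; infer_instance
  have hg : Q.map ((F).map g₀) = 0 := by
    have : P.ι.mapDerivedCategory.map (Q.map g₀) = 0 := by
      rw [show Q.map g₀ = Q.map s₀ ≫ inv (Q.map s₀) ≫ Q.map g₀ by simp, Functor.map_comp, hψ,
        comp_zero]
    have n1 := e.hom.naturality g₀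
    simp only [Functor.comp_map, this, zero_comp] at n1
    rw [← cancel_epi (e.hom.app L), comp_zero]
    exact n1.symm
  have h' : Qh.map ((HomotopyCategory.quotient A _).map ((F).map g₀)) =
      Qh.map ((HomotopyCategory.quotient A _).map 0) :=
    hg.trans (Q.map_zero _ _).symm
  rw [MorphismProperty.map_eq_iff_precomp Qh
    (HomotopyCategory.quasiIso A (ComplexShape.up ℤ))] at h'
  obtain ⟨K, t, ht, hh⟩ := h'
  obtain ⟨K, rfl⟩ := HomotopyCategory.quotient_obj_surjective K
  obtain ⟨t, rfl⟩ := (HomotopyCategory.quotient _ _).map_surjective t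
  rw [HomotopyCategory.quotient_map_mem_quasiIso_iff, HomologicalComplex.mem_quasiIso_iff] at ht
  rw [← Functor.map_comp, ← Functor.map_comp, comp_zero] at hh
  have : QuasiIso (CochainComplex.truncLEMap t b) := by
    rw [CochainComplex.quasiIso_truncLEMap_iff]
    intros; infer_instance
  let r := CochainComplex.truncLEMap t b ≫ CochainComplex.ιTruncLE ((F).obj L) b
  have : QuasiIso r := by dsimp [r]; infer_instance
  obtain ⟨L₁, hL₁, α, r₀, hα, hr₀, hr⟩ := exists_refine P (b := b) r hlift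
  have hom : Homotopy ((F).map (r₀ ≫ g₀)) ((F).map 0) :=
    (Homotopy.ofEq (by simp [hr, r])).trans (((HomotopyCategory.homotopyOfEq _ _ hh).compLeft
      (α ≫ CochainComplex.ιTruncLE K b)).trans (Homotopy.ofEq (by simp)))
  have hz := Q_map_eq_of_homotopy _ (homotopy_of_map P hom).some
  have : IsIso (Q.map r₀) := (isIso_Q_map_iff_quasiIso _ r₀).2 hr₀
  rw [Q.map_comp, Q.map_zero] at hz
  rw [(cancel_epi (Q.map r₀)).1 (hz.trans comp_zero.symm), comp_zero]

include hlift in
theorem bijective_map (M N : DerivedCategory P.FullSubcategory) (b : ℤ) (hM : M.IsLE b)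
    (hN : N.IsLE b) :
    Function.Bijective (fun φ : M ⟶ N => P.ι.mapDerivedCategory.map φ) := by
  obtain ⟨M', hM', ⟨eM⟩⟩ := M.exists_iso_Q_obj_of_isLE b
  obtain ⟨N', hN', ⟨eN⟩⟩ := N.exists_iso_Q_obj_of_isLE b
  constructor
  · intro φ₁ φ₂ h
    rw [← sub_eq_zero]
    have h' : P.ι.mapDerivedCategory.map (φ₁ - φ₂) = 0 := by
      rw [Functor.map_sub]; exact sub_eq_zero.2 h
    have := faithful_aux P hlift b (eM.inv ≫ (φ₁ - φ₂) ≫ eN.hom)
      (by rw [Functor.map_comp, Functor.map_comp, h', zero_comp, comp_zero])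
    rw [← cancel_epi eM.inv, ← cancel_mono eN.hom, Category.assoc, this, comp_zero, zero_comp]
  · intro φ
    obtain ⟨ψ, hψ⟩ := full_aux P hlift b
      (P.ι.mapDerivedCategory.map eM.inv ≫ φ ≫ P.ι.mapDerivedCategory.map eN.hom)
    refine ⟨eM.hom ≫ ψ ≫ eN.inv, ?_⟩
    simp only [Functor.map_comp, hψ, Category.assoc]
    simp

include hlift in
theorem exists_preimage (K : DerivedCategory A) (b : ℤ) (hK : K.IsLE b)
    (hH : ∀ n : ℤ, P ((DerivedCategory.homologyFunctor A n).obj K)) :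
    ∃ M : DerivedCategory P.FullSubcategory, M.IsLE b ∧
      Nonempty (P.ι.mapDerivedCategory.obj M ≅ K) := by
  obtain ⟨K', hK', ⟨eK⟩⟩ := K.exists_iso_Q_obj_of_isLE b
  obtain ⟨L, hL, α, hα⟩ := exists_lift P hlift K' b fun n =>
    P.prop_of_iso ((DerivedCategory.homologyFunctor A n).mapIso eK ≪≫
      (homologyFunctorFactors A n).app K') (hH n)
  refine ⟨Q.obj L, (isLE_Q_obj_iff L b).2 inferInstance, ⟨?_⟩⟩
  have : IsIso (Q.map α) := (isIso_Q_map_iff_quasiIso _ α).2 hα
  exact P.ι.mapDerivedCategoryFactors.app L ≪≫ asIso (Q.map α) ≪≫ eK.symm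

end Groth.Agent.CohDerLib.SerreDMinus
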