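import Mathlib.CategoryTheory.Abelian.SerreClass.Localization
import Mathlib.Algebra.Homology.DerivedCategory.ExactFunctor
import Mathlib.Algebra.Homology.ShortComplex.ExactFunctor

/-!
# Lifting complexes along an exact localization functor with calculus of fractions
-/

universe w w' v v' u u'

open CategoryTheory CategoryTheory.Limits

namespace Groth.Agent.CohDerLib.SerreLift

variable {A : Type u} [Category.{v} A] [Abelian A] {B : Type u'} [Category.{v'} B] [Abelian B]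
  (L : A ⥤ B) (W : MorphismProperty A) [L.IsLocalization W] [W.HasLeftCalculusOfFractions]
  [W.HasRightCalculusOfFractions] [L.Additive] [PreservesFiniteLimits L]
  [PreservesFiniteColimits L] (K : CochainComplex B ℤ)

/-- a lift of one term -/
structure Lift (n : ℤ) where
  X : A
  a : L.obj X ≅ K.X n

/-- a lift of one differential -/
structure Arr (i j : ℤ) where
  x : Lift L K i
  y : Lift L K j
  f : x.X ⟶ y.X
  comm : L.map f ≫ y.a.hom = x.a.hom ≫ K.d i j

include W in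
lemma exists_tgt (i j : ℤ) (x : Lift L K i) :
    ∃ (y : Lift L K j) (f : x.X ⟶ y.X), L.map f ≫ y.a.hom = x.a.hom ≫ K.d i j := by
  have := Localization.essSurj L W
  let e := L.objObjPreimageIso (K.X j)
  obtain ⟨φ, hφ⟩ := Localization.exists_leftFraction L W (x.a.hom ≫ K.d i j ≫ e.inv)
  have := Localization.inverts L W φ.s φ.hs
  refine ⟨⟨φ.Y', (asIso (L.map φ.s)).symm ≪≫ e⟩, φ.f, ?_⟩
  have h : (x.a.hom ≫ K.d i j ≫ e.inv) ≫ L.map φ.s = L.map φ.f := by
    rw [hφ, MorphismProperty.LeftFraction.map_comp_map_s]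
  simp [← h]

include W in
lemma exists_src (i j : ℤ) (y : Lift L K j) :
    ∃ (x : Lift L K i) (f : x.X ⟶ y.X), L.map f ≫ y.a.hom = x.a.hom ≫ K.d i j := by
  have := Localization.essSurj L W
  let e := L.objObjPreimageIso (K.X i)
  obtain ⟨φ, hφ⟩ := Localization.exists_rightFraction L W (e.hom ≫ K.d i j ≫ y.a.inv)
  have := Localization.inverts L W φ.s φ.hs
  refine ⟨⟨φ.X', asIso (L.map φ.s) ≪≫ e⟩, φ.f, ?_⟩
  have h : L.map φ.s ≫ (e.hom ≫ K.d i j ≫ y.a.inv) = L.map φ.f := by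
    rw [hφ, MorphismProperty.RightFraction.map_s_comp_map]
  simp [← h]

include W in
lemma exists_up {i j : ℤ} (s : Arr L K i j) (l : ℤ) :
    ∃ (z : Lift L K l) (g : s.y.X ⟶ z.X),
      L.map g ≫ z.a.hom = s.y.a.hom ≫ K.d j l ∧ s.f ≫ g = 0 := by
  obtain ⟨z, g, hg⟩ := exists_tgt L W K j l s.y
  have h0 : L.map (s.f ≫ g) = 0 := by
    rw [← cancel_mono z.a.hom, zero_comp, L.map_comp, Category.assoc, hg, reassoc_of% s.comm]
    simp
  let hc := (CokernelCofork.isColimitMapCoconeEquiv _ L).1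
    (isColimitOfPreserves L (cokernelIsCokernel (s.f ≫ g)))
  have : IsIso (L.map (cokernel.π (s.f ≫ g))) := CokernelCofork.IsColimit.isIso_π _ hc h0
  refine ⟨⟨cokernel (s.f ≫ g), (asIso (L.map (cokernel.π (s.f ≫ g)))).symm ≪≫ z.a⟩,
    g ≫ cokernel.π _, ?_, by rw [← Category.assoc, cokernel.condition]⟩
  simp [hg]

include W in
lemma exists_down {j l : ℤ} (s : Arr L K j l) (i : ℤ) :
    ∃ (x : Lift L K i) (g : x.X ⟶ s.x.X),
      L.map g ≫ s.x.a.hom = x.a.hom ≫ K.d i j ∧ g ≫ s.f = 0 := by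
  obtain ⟨x, g, hg⟩ := exists_src L W K i j s.x
  have h0 : L.map (g ≫ s.f) = 0 := by
    rw [← cancel_mono s.y.a.hom, zero_comp, L.map_comp, Category.assoc, s.comm, reassoc_of% hg]
    simp
  let hc := (KernelFork.isLimitMapConeEquiv _ L).1
    (isLimitOfPreserves L (kernelIsKernel (g ≫ s.f)))
  have : IsIso (L.map (kernel.ι (g ≫ s.f))) := KernelFork.IsLimit.isIso_ι _ hc h0
  refine ⟨⟨kernel (g ≫ s.f), asIso (L.map (kernel.ι (g ≫ s.f))) ≪≫ x.a⟩, kernel.ι _ ≫ g, ?_,
    by rw [Category.assoc, kernel.condition]⟩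
  simp [hg]

include W in
lemma exists_complex : ∃ M : CochainComplex A ℤ,
    Nonempty ((L.mapHomologicalComplex (ComplexShape.up ℤ)).obj M ≅ K) := by
  have := Localization.essSurj L W
  choose nz ng h1 h2 using fun (i j l : ℤ) (s : Arr L K i j) => exists_up L W K s l
  choose px pg g1 g2 using fun (i j l : ℤ) (s : Arr L K j l) => exists_down L W K s i
  obtain ⟨y, f₀, hf₀⟩ := exists_tgt L W K 0 1 ⟨_, L.objObjPreimageIso (K.X 0)⟩
  let a₀ : Arr L K (Int.ofNat 0) (Int.ofNat 1) := ⟨_, y, f₀, hf₀⟩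
  let up : ∀ k : ℕ, Arr L K (Int.ofNat k) (Int.ofNat (k + 1)) := fun k => Nat.rec a₀
    (fun m s => ⟨s.y, nz _ _ (Int.ofNat (m + 2)) s, ng _ _ _ s, h1 _ _ _ s⟩) k
  let down : ∀ k : ℕ, Arr L K (Int.negSucc k) (Int.negSucc k + 1) := fun k => Nat.rec
    ⟨px (Int.negSucc 0) _ _ (up 0), (up 0).x, pg _ _ _ (up 0), g1 _ _ _ (up 0)⟩
    (fun m s => ⟨px (Int.negSucc (m + 1)) _ _ s, s.x, pg _ _ _ s, g1 _ _ _ s⟩) k
  let ob : ∀ n : ℤ, Lift L K n := fun n => match n with
    | Int.ofNat k => (up k).x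
    | Int.negSucc k => (down k).x
  let df : ∀ n : ℤ, (ob n).X ⟶ (ob (n + 1)).X := fun n => match n with
    | Int.ofNat k => (up k).f
    | Int.negSucc 0 => (down 0).f
    | Int.negSucc (k + 1) => (down (k + 1)).f
  have hsq : ∀ n : ℤ, df n ≫ df (n + 1) = 0 := fun n => match n with
    | Int.ofNat k => h2 _ _ _ (up k)
    | Int.negSucc 0 => g2 _ _ _ (up 0)
    | Int.negSucc 1 => g2 _ _ _ (down 0)
    | Int.negSucc (k + 2) => g2 _ _ _ (down (k + 1))
  have hcomm : ∀ n : ℤ, L.map (df n) ≫ (ob (n + 1)).a.hom = (ob n).a.hom ≫ K.d n (n + 1) :=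
    fun n => match n with
    | Int.ofNat k => (up k).comm
    | Int.negSucc 0 => (down 0).comm
    | Int.negSucc (k + 1) => (down (k + 1)).comm
  refine ⟨CochainComplex.of (fun n => (ob n).X) df hsq,
    ⟨HomologicalComplex.Hom.isoOfComponents (fun n => (ob n).a) ?_⟩⟩
  intro i j hij
  obtain rfl : i + 1 = j := hij
  show (ob i).a.hom ≫ K.d i (i + 1) =
    L.map (CochainComplex.of.d (fun n => (ob n).X) df i (i + 1)) ≫ (ob (i + 1)).a.hom
  rw [CochainComplex.of_d, hcomm]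

include W in
theorem essSurj [HasDerivedCategory.{w} A] [HasDerivedCategory.{w'} B] :
    L.mapDerivedCategory.EssSurj where
  mem_essImage X := by
    obtain ⟨M, ⟨e⟩⟩ := exists_complex L W (DerivedCategory.Q.objPreimage X)
    exact ⟨DerivedCategory.Q.obj M, ⟨L.mapDerivedCategoryFactors.app M ≪≫
      DerivedCategory.Q.mapIso e ≪≫ DerivedCategory.Q.objObjPreimageIso X⟩⟩

end Groth.Agent.CohDerLib.SerreLift
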