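import Mathlib.Algebra.Homology.Refinements
import Mathlib.Algebra.Homology.Embedding.CochainComplex
import Mathlib.CategoryTheory.Abelian.SerreClass.Basic
import Mathlib.CategoryTheory.Abelian.Refinements

/-!
# Resolutions of complexes with cohomology in a Serre class by complexes with terms in the class
-/

universe v u

open CategoryTheory CategoryTheory.Limits

namespace Groth.Agent.CohDerLib.SerreRes

variable {A : Type u} [Category.{v} A] [Abelian A] (P : ObjectProperty A) [P.IsSerreClass]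
  (K : CochainComplex A ℤ)

/-- one stage of the construction, living in degree `n` -/
structure St (n : ℤ) where
  Q : A
  hQ : P Q
  Z : A
  hZ : P Z
  i : Z ⟶ Q
  a : Q ⟶ K.X n
  hcyc : i ≫ a ≫ K.d n (n + 1) = 0
  lift : ∀ ⦃T : A⦄ (x : T ⟶ K.X n), x ≫ K.d n (n + 1) = 0 →
    ∃ (T' : A) (π : T' ⟶ T) (_ : Epi π) (z : T' ⟶ Z) (w : T' ⟶ K.X (n - 1)),
      π ≫ x = z ≫ i ≫ a + w ≫ K.d (n - 1) n

variable {P} {K}

/-- compatibility of consecutive stages -/
structure Link {m : ℤ} (s' : St P K m) (s : St P K (m + 1)) (d : s'.Q ⟶ s.Q) : Prop where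
  comm : d ≫ s.a = s'.a ≫ K.d m (m + 1)
  fac : ∃ u, u ≫ s.i = d
  cyc : s'.i ≫ d = 0
  ker : ∀ ⦃T : A⦄ (x : T ⟶ s'.Q), x ≫ d = 0 → ∃ z : T ⟶ s'.Z, z ≫ s'.i = x
  lift : ∀ ⦃T : A⦄ (x : T ⟶ K.X m) (z : T ⟶ s.Z), x ≫ K.d m (m + 1) = z ≫ s.i ≫ s.a →
    ∃ (T' : A) (π : T' ⟶ T) (_ : Epi π) (w : T' ⟶ s'.Q), π ≫ z ≫ s.i = w ≫ d

variable (hlift : ∀ (X Y : A) (π : X ⟶ Y), Epi π → P Y →
    ∃ (X' : A) (i : X' ⟶ X), Mono i ∧ P X' ∧ Epi (i ≫ π))
  (hH : ∀ n, P (K.homology n))

include hlift hH in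
theorem exists_next {m : ℤ} (s : St P K (m + 1)) :
    ∃ (s' : St P K m) (d : s'.Q ⟶ s.Q), Link s' s d := by
  let F := pullback (K.d m (m + 1)) (s.i ≫ s.a)
  let p2 : F ⟶ s.Z := pullback.snd _ _
  have hR : P (Abelian.image p2) := P.prop_of_mono (Abelian.image.ι p2) s.hZ
  obtain ⟨X₁, j₁, -, hX₁, he₁⟩ := hlift F _ (Abelian.factorThruImage p2) inferInstance hR
  obtain ⟨X₂, j₂, -, hX₂, he₂⟩ :=
    hlift (K.cycles m) (K.homology m) (K.homologyπ m) inferInstance (hH m)
  let a' : X₁ ⊞ X₂ ⟶ K.X m := biprod.desc (j₁ ≫ pullback.fst _ _) (j₂ ≫ K.iCycles m)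
  let u : X₁ ⊞ X₂ ⟶ s.Z := biprod.desc (j₁ ≫ p2) 0
  let d : X₁ ⊞ X₂ ⟶ s.Q := u ≫ s.i
  have hY : P (X₁ ⊞ X₂) :=
    P.prop_X₂_of_shortExact (ShortComplex.Splitting.ofHasBinaryBiproduct X₁ X₂).shortExact hX₁ hX₂
  have comm : d ≫ s.a = a' ≫ K.d m (m + 1) := by
    simp only [d, u, Category.assoc]
    apply biprod.hom_ext'
    · simp only [a', biprod.inl_desc_assoc, Category.assoc]
      exact congrArg (j₁ ≫ ·) pullback.condition.symm
    · simp [a']
  refine ⟨{ Q := X₁ ⊞ X₂, hQ := hY, Z := kernel d, hZ := P.prop_of_mono (kernel.ι d) hY,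
            i := kernel.ι d, a := a'
            hcyc := by rw [← comm, kernel.condition_assoc, zero_comp]
            lift := fun T x hx => ?_ }, d,
    ⟨comm, ⟨_, rfl⟩, kernel.condition d, fun T x hx => ⟨kernel.lift d x hx, kernel.lift_ι _ _ _⟩,
      fun T x z hxz => ?_⟩⟩
  · obtain ⟨T', p, hp, y, hy⟩ := surjective_up_to_refinements_of_epi (j₂ ≫ K.homologyπ m)
      (K.liftCycles x (m + 1) (by simp) hx ≫ K.homologyπ m)
    have hz : (p ≫ K.liftCycles x (m + 1) (by simp) hx - y ≫ j₂) ≫ K.homologyπ m = 0 := by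
      rw [Preadditive.sub_comp, Category.assoc, hy, Category.assoc, sub_self]
    obtain ⟨T'', q, hq, w, hw⟩ :=
      (K.comp_homologyπ_eq_zero_iff_up_to_refinements (m - 1) m (by simp) _).1 hz
    refine ⟨T'', q ≫ p, inferInstance, kernel.lift d (q ≫ y ≫ biprod.inr) (by simp [d, u]), w, ?_⟩
    have hw' := congrArg (· ≫ K.iCycles m) hw
    simp only [Preadditive.comp_sub, Preadditive.sub_comp, Category.assoc,
      HomologicalComplex.liftCycles_i, HomologicalComplex.toCycles_i] at hw'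
    rw [kernel.lift_ι_assoc, sub_eq_iff_eq_add] at *
    simp only [a', Category.assoc, biprod.inr_desc]
    rw [hw', add_comm]
  · let q : T ⟶ F := pullback.lift x z hxz
    obtain ⟨T', p, hp, y, hy⟩ := surjective_up_to_refinements_of_epi
      (j₁ ≫ Abelian.factorThruImage p2) (q ≫ Abelian.factorThruImage p2)
    refine ⟨T', p, hp, y ≫ biprod.inl, ?_⟩
    have hy' := congrArg (· ≫ Abelian.image.ι p2) hy
    simp only [Category.assoc, Abelian.image.fac] at hy'
    rw [show q ≫ p2 = z from pullback.lift_snd _ _ _] at hy'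
    simp only [d, u, Category.assoc, biprod.inl_desc_assoc]
    rw [reassoc_of% hy']

variable {Z₀ : A} (hZ₀ : IsZero Z₀) (a : ℤ) [K.IsStrictlyLE a]

/-- the trivial stage above `a` -/
noncomputable def trivSt (m : ℤ) (hm : a < m) : St P K m where
  Q := Z₀
  hQ := P.prop_of_isZero hZ₀
  Z := Z₀
  hZ := P.prop_of_isZero hZ₀
  i := 𝟙 _
  a := 0
  hcyc := by simp
  lift := fun T x _ => ⟨T, 𝟙 T, inferInstance, 0, 0,
    (K.isZero_of_isStrictlyLE a m hm).eq_of_tgt _ _⟩

/-- all stages -/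
noncomputable def stageAt : ∀ (k : ℕ) (m : ℤ), a + 1 - k ≤ m → St P K m
  | 0, m, h => trivSt (Z₀ := Z₀) hZ₀ a m (by omega)
  | k + 1, m, h => (exists_next hlift hH (stageAt k (m + 1) (by omega))).choose

lemma stageAt_congr {k k' : ℕ} (hk : k = k') (m : ℤ) (h : a + 1 - k ≤ m) (h' : a + 1 - k' ≤ m) :
    stageAt hlift hH hZ₀ a k m h = stageAt hlift hH hZ₀ a k' m h' := by
  subst hk
  rfl

include hlift hH in
theorem exists_resolution :
    ∃ (Q : CochainComplex A ℤ) (α : Q ⟶ K),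
      Q.IsStrictlyLE a ∧ (∀ n, P (Q.X n)) ∧ QuasiIso α := by
  obtain ⟨Z₀, hZ₀, -⟩ := P.exists_prop_of_containsZero
  let S : ∀ m, St P K m := fun m =>
    stageAt hlift hH hZ₀ a (a + 1 - m).toNat m (by omega)
  have hzero : ∀ m, a < m → IsZero (S m).Q := fun m hm => by
    simp only [S]
    rw [stageAt_congr hlift hH hZ₀ a (show (a + 1 - m).toNat = 0 by omega) m _ (by omega)]
    exact hZ₀
  have hlink : ∀ m, ∃ d, Link (S m) (S (m + 1)) d := fun m => by
    by_cases hm : a < m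
    · refine ⟨0, ⟨(K.isZero_of_isStrictlyLE a (m + 1) (by omega)).eq_of_tgt _ _,
        ⟨0, zero_comp⟩, comp_zero, ?_, fun T x z _ => ⟨T, 𝟙 T, inferInstance, 0,
          (hzero (m + 1) (by omega)).eq_of_tgt _ _⟩⟩⟩
      intro T x _
      have : IsIso (S m).i := by
        simp only [S]
        rw [stageAt_congr hlift hH hZ₀ a (show (a + 1 - m).toNat = 0 by omega) m _ (by omega)]
        exact inferInstanceAs (IsIso (𝟙 Z₀))
      exact ⟨x ≫ inv (S m).i, by simp⟩
    · simp only [S]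
      rw [stageAt_congr hlift hH hZ₀ a
        (show (a + 1 - m).toNat = (a + 1 - (m + 1)).toNat + 1 by omega) m _ (by omega)]
      exact (exists_next hlift hH _).choose_spec
  choose d hd using hlink
  let Q : CochainComplex A ℤ := CochainComplex.of (fun m => (S m).Q) d fun m => by
    obtain ⟨u, hu⟩ := (hd m).fac
    rw [← hu, Category.assoc, (hd (m + 1)).cyc, comp_zero]
  have hQd : ∀ m, Q.d m (m + 1) = d m := fun m => by simp [Q]
  let α : Q ⟶ K :=
    { f := fun m => (S m).a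
      comm' := fun i j (hij : i + 1 = j) => by
        subst hij
        rw [hQd]
        exact (hd i).comm.symm }
  refine ⟨Q, α, ?_, fun n => (S n).hQ, ?_⟩
  · rw [CochainComplex.isStrictlyLE_iff]
    exact fun i hi => hzero i hi
  rw [quasiIso_iff]
  intro j
  rw [quasiIsoAt_iff_isIso_homologyMap]
  obtain ⟨i, rfl⟩ : ∃ i, j = i + 1 := ⟨j - 1, by omega⟩
  have hmono : Mono (HomologicalComplex.homologyMap α (i + 1)) := by
    rw [HomologicalComplex.mono_homologyMap_iff_up_to_refinements α i (i + 1) (i + 1 + 1)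
      (by simp) (by simp)]
    intro T x hx y hy
    rw [hQd] at hx
    obtain ⟨z, hz⟩ := (hd (i + 1)).ker x hx
    obtain ⟨T', p, hp, w, hw⟩ := (hd i).lift y z (by
      rw [reassoc_of% hz]; exact hy.symm)
    exact ⟨T', p, hp, w, by rw [hQd, ← hz]; exact hw⟩
  have hepi : Epi (HomologicalComplex.homologyMap α (i + 1)) := by
    rw [HomologicalComplex.epi_homologyMap_iff_up_to_refinements α (i + 1 - 1) (i + 1) (i + 1 + 1)
      (by simp) (by simp)]
    intro T y hy
    obtain ⟨T', p, hp, z, w, hz⟩ := (S (i + 1)).lift y hy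
    refine ⟨T', p, hp, z ≫ (S (i + 1)).i, ?_, w, ?_⟩
    · rw [hQd, Category.assoc, (hd (i + 1)).cyc, comp_zero]
    · rw [hz, Category.assoc]
  exact isIso_of_mono_of_epi _

end Groth.Agent.CohDerLib.SerreRes
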