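import Groth.Agent.CohDerLib.DerivedPro
import Mathlib.CategoryTheory.Limits.Shapes.Biproducts
import Mathlib.CategoryTheory.Preadditive.Biproducts
import Mathlib.Order.Interval.Finset.Defs
import Mathlib.Data.Int.Interval

/-!
# Splitting of bounded objects with vanishing higher Ext between cohomology objects
-/

universe w v u
open CategoryTheory Category Limits Pretriangulated DerivedCategory

namespace CohDerLib.Splitting

variable {A : Type u} [Category.{v} A] [Abelian A] [HasDerivedCategory.{w} A]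

local notation "t" => (DerivedCategory.TStructure.t (C := A))
local notation "H" => DerivedCategory.homologyFunctor A
local notation "Sg" => DerivedCategory.singleFunctor A

/-- Transport of an Ext vanishing to arbitrary degrees. -/
lemma single_hom_eq_zero {P Q : A} {i j : ℤ} (p : ℕ) (hp : j + p = i + 1)
    (h : ∀ f : (Sg 0).obj P ⟶ ((Sg 0).obj Q)⟦(p : ℤ)⟧, f = 0)
    (g : (Sg i).obj P ⟶ ((Sg j).obj Q)⟦(1 : ℤ)⟧) : g = 0 := by
  let eP : ((Sg i).obj P)⟦i⟧ ≅ (Sg 0).obj P :=
    ((DerivedCategory.singleFunctors A).shiftIso i 0 i (by simp)).app P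
  let eQ : (((Sg j).obj Q)⟦(1 : ℤ)⟧)⟦i⟧ ≅ ((Sg 0).obj Q)⟦(p : ℤ)⟧ :=
    ((shiftFunctorAdd' (DerivedCategory A) 1 i (j + p) (by omega)).app ((Sg j).obj Q)).symm ≪≫
      (shiftFunctorAdd' (DerivedCategory A) j (p : ℤ) (j + p) rfl).app ((Sg j).obj Q) ≪≫
      (shiftFunctor (DerivedCategory A) (p : ℤ)).mapIso
        (((DerivedCategory.singleFunctors A).shiftIso j 0 j (by simp)).app Q)
  have h0 := h (eP.inv ≫ g⟦i⟧' ≫ eQ.hom)
  apply (shiftFunctor (DerivedCategory A) i).map_injective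
  rw [Functor.map_zero]
  simpa using congrArg (fun q => eP.hom ≫ q ≫ eQ.inv) h0

lemma vanish_one (K : DerivedCategory A)
    (hExt : ∀ (i j : ℤ) (p : ℕ), j < i → 2 ≤ p →
      ∀ f : (Sg 0).obj ((H i).obj K) ⟶ ((Sg 0).obj ((H j).obj K))⟦(p : ℤ)⟧, f = 0) (i a : ℤ)
    (M : DerivedCategory A) [M.IsGE a] [M.IsLE a] (hlt : a < i)
    (hM : ∀ j, IsZero ((H j).obj M) ∨ Nonempty ((H j).obj M ≅ (H j).obj K))
    (f : (Sg i).obj ((H i).obj K) ⟶ M⟦(1 : ℤ)⟧) : f = 0 := by
  obtain ⟨N, ⟨e⟩⟩ := M.exists_iso_singleFunctor_obj_of_isGE_of_isLE a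
  let θ : (H a).obj M ≅ N := (H a).mapIso e ≪≫ (singleFunctorCompHomologyFunctorIso A a).app N
  rw [← cancel_mono ((e.hom)⟦(1 : ℤ)⟧'), zero_comp]
  rcases hM a with hz | ⟨⟨ψ⟩⟩
  · exact ((shiftFunctor (DerivedCategory A) (1 : ℤ)).map_isZero
      ((Sg a).map_isZero (hz.of_iso θ.symm))).eq_of_tgt _ _
  · let q := (θ.symm ≪≫ ψ)
    rw [← cancel_mono (((Sg a).map q.hom)⟦(1 : ℤ)⟧'), zero_comp]
    exact single_hom_eq_zero (i - a + 1).toNat (by rw [Int.toNat_of_nonneg (by omega)]; ring)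
      (fun g => hExt i a _ hlt (by omega) g) _

lemma vanish (K : DerivedCategory A)
    (hExt : ∀ (i j : ℤ) (p : ℕ), j < i → 2 ≤ p →
      ∀ f : (Sg 0).obj ((H i).obj K) ⟶ ((Sg 0).obj ((H j).obj K))⟦(p : ℤ)⟧, f = 0) (i : ℤ) :
    ∀ (d : ℕ) (a : ℤ) (M : DerivedCategory A), M.IsGE a → M.IsLE (a + d) → a + d < i →
      (∀ j, IsZero ((H j).obj M) ∨ Nonempty ((H j).obj M ≅ (H j).obj K)) →
      ∀ f : (Sg i).obj ((H i).obj K) ⟶ M⟦(1 : ℤ)⟧, f = 0 := by
  intro d
  induction d with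
  | zero =>
    intro a M hGE hLE hlt hM f
    simp only [Nat.cast_zero, add_zero] at hLE hlt
    exact vanish_one K hExt i a M hlt hM f
  | succ d ih =>
    intro a M hGE hLE hlt hM f
    have hT := (t).triangleLTGE_distinguished (a + 1) M
    set M₁ := ((t).truncLT (a + 1)).obj M
    set M₂ := ((t).truncGE (a + 1)).obj M
    haveI h1GE : M₁.IsGE a := inferInstanceAs ((t).IsGE (((t).truncLT (a + 1)).obj M) a)
    haveI h1LE : M₁.IsLE a := (t).isLE_truncLT_obj M (a + 1) a (by omega)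
    haveI h2GE : M₂.IsGE (a + 1) := inferInstanceAs ((t).IsGE (((t).truncGE (a + 1)).obj M) (a + 1))
    haveI h2LE : M₂.IsLE (a + 1 + d) := by
      rw [show a + ((d + 1 : ℕ) : ℤ) = a + 1 + d by push_cast; ring] at hLE
      exact inferInstanceAs ((t).IsLE (((t).truncGE (a + 1)).obj M) (a + 1 + d))
    have c1 : ∀ j, IsZero ((H j).obj M₁) ∨ Nonempty ((H j).obj M₁ ≅ (H j).obj K) := fun j => by
      by_cases hj : j = a
      · subst hj
        have z1 : IsZero ((H (j - 1)).obj M₂) := isZero_of_isGE _ (j + 1) _ (by omega)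
        have z2 : IsZero ((H j).obj M₂) := isZero_of_isGE _ (j + 1) _ (by omega)
        have : Mono ((H j).map (((t).truncLTι (j + 1)).app M)) :=
          (HomologySequence.mono_homologyMap_mor₁_iff _ hT (j - 1) j (by omega)).2 (z1.eq_of_src _ _)
        have : Epi ((H j).map (((t).truncLTι (j + 1)).app M)) :=
          (HomologySequence.epi_homologyMap_mor₁_iff _ hT j).2 (z2.eq_of_tgt _ _)
        have := isIso_of_mono_of_epi ((H j).map (((t).truncLTι (j + 1)).app M))
        rcases hM j with hz | ⟨⟨ψ⟩⟩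
        · exact Or.inl (hz.of_iso (asIso ((H j).map (((t).truncLTι (j + 1)).app M))))
        · exact Or.inr ⟨asIso ((H j).map (((t).truncLTι (j + 1)).app M)) ≪≫ ψ⟩
      · left
        rcases lt_or_gt_of_ne hj with hj | hj
        · exact isZero_of_isGE _ a _ hj
        · exact isZero_of_isLE _ a _ hj
    have c2 : ∀ j, IsZero ((H j).obj M₂) ∨ Nonempty ((H j).obj M₂ ≅ (H j).obj K) := fun j => by
      by_cases hj : j < a + 1
      · exact Or.inl (isZero_of_isGE _ (a + 1) _ hj)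
      · have z1 : IsZero ((H j).obj M₁) := isZero_of_isLE _ a _ (by omega)
        have z2 : IsZero ((H (j + 1)).obj M₁) := isZero_of_isLE _ a _ (by omega)
        have : Mono ((H j).map (((t).truncGEπ (a + 1)).app M)) :=
          (HomologySequence.mono_homologyMap_mor₂_iff _ hT j).2 (z1.eq_of_src _ _)
        have : Epi ((H j).map (((t).truncGEπ (a + 1)).app M)) :=
          (HomologySequence.epi_homologyMap_mor₂_iff _ hT j (j + 1) rfl).2 (z2.eq_of_tgt _ _)
        have := isIso_of_mono_of_epi ((H j).map (((t).truncGEπ (a + 1)).app M))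
        rcases hM j with hz | ⟨⟨ψ⟩⟩
        · exact Or.inl (hz.of_iso (asIso ((H j).map (((t).truncGEπ (a + 1)).app M))).symm)
        · exact Or.inr ⟨(asIso ((H j).map (((t).truncGEπ (a + 1)).app M))).symm ≪≫ ψ⟩
    have h2 := ih (a + 1) M₂ h2GE h2LE (by push_cast at hlt; omega) c2
      (f ≫ (((t).truncGEπ (a + 1)).app M)⟦(1 : ℤ)⟧')
    obtain ⟨g, hg⟩ : ∃ g : (Sg i).obj ((H i).obj K) ⟶ M₁⟦(1 : ℤ)⟧,
        f = g ≫ (-(((t).truncLTι (a + 1)).app M)⟦(1 : ℤ)⟧') :=
      Triangle.coyoneda_exact₂ _ (rot_of_distTriang _ (rot_of_distTriang _ (rot_of_distTriang _ hT))) f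
        (by
          change f ≫ (-(((t).truncGEπ (a + 1)).app M)⟦(1 : ℤ)⟧') = 0
          rw [Preadditive.comp_neg, h2, neg_zero])
    rw [hg, vanish_one K hExt i a M₁ (by omega) c1 g, zero_comp]

lemma exists_component (K : DerivedCategory A)
    (hExt : ∀ (i j : ℤ) (p : ℕ), j < i → 2 ≤ p →
      ∀ f : (Sg 0).obj ((H i).obj K) ⟶ ((Sg 0).obj ((H j).obj K))⟦(p : ℤ)⟧, f = 0) (a i : ℤ)
    [K.IsGE a] (hai : a ≤ i) :
    ∃ φ : (Sg i).obj ((H i).obj K) ⟶ K, IsIso ((H i).map φ) := by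
  have hT := (t).triangleLTGE_distinguished (i + 1) K
  set X₁ := ((t).truncLT (i + 1)).obj K
  haveI : X₁.IsGE a := inferInstanceAs ((t).IsGE (((t).truncLT (i + 1)).obj K) a)
  haveI : X₁.IsLE i := (t).isLE_truncLT_obj K (i + 1) i (by omega)
  have hS := (t).triangleLTGE_distinguished i X₁
  set Y := ((t).truncGE i).obj X₁
  set M := ((t).truncLT i).obj X₁
  haveI : Y.IsGE i := inferInstanceAs ((t).IsGE (((t).truncGE i).obj X₁) i)
  haveI : Y.IsLE i := inferInstanceAs ((t).IsLE (((t).truncGE i).obj X₁) i)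
  haveI : M.IsGE a := inferInstanceAs ((t).IsGE (((t).truncLT i).obj X₁) a)
  haveI : M.IsLE (i - 1) := (t).isLE_truncLT_obj X₁ i (i - 1) (by omega)
  have hK : ∀ j, j ≤ i → IsIso ((H j).map (((t).truncLTι (i + 1)).app K)) := fun j hj => by
    have z1 : IsZero ((H (j - 1)).obj (((t).truncGE (i + 1)).obj K)) :=
      isZero_of_isGE _ (i + 1) _ (by omega)
    have z2 : IsZero ((H j).obj (((t).truncGE (i + 1)).obj K)) :=
      isZero_of_isGE _ (i + 1) _ (by omega)
    have : Mono ((H j).map (((t).truncLTι (i + 1)).app K)) :=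
      (HomologySequence.mono_homologyMap_mor₁_iff _ hT (j - 1) j (by omega)).2 (z1.eq_of_src _ _)
    have : Epi ((H j).map (((t).truncLTι (i + 1)).app K)) :=
      (HomologySequence.epi_homologyMap_mor₁_iff _ hT j).2 (z2.eq_of_tgt _ _)
    exact isIso_of_mono_of_epi _
  have hπ : IsIso ((H i).map (((t).truncGEπ i).app X₁)) := by
    have z1 : IsZero ((H i).obj M) := isZero_of_isLE _ (i - 1) _ (by omega)
    have z2 : IsZero ((H (i + 1)).obj M) := isZero_of_isLE _ (i - 1) _ (by omega)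
    have : Mono ((H i).map (((t).truncGEπ i).app X₁)) :=
      (HomologySequence.mono_homologyMap_mor₂_iff _ hS i).2 (z1.eq_of_src _ _)
    have : Epi ((H i).map (((t).truncGEπ i).app X₁)) :=
      (HomologySequence.epi_homologyMap_mor₂_iff _ hS i (i + 1) rfl).2 (z2.eq_of_tgt _ _)
    exact isIso_of_mono_of_epi _
  haveI := hK i le_rfl
  let σ := (singleFunctorCompHomologyFunctorIso A i).app ((H i).obj K)
  obtain ⟨θ, hθ⟩ := CohDerLib.ProSys.exists_map_homology_eq
    (K := (Sg i).obj ((H i).obj K)) (L := Y) i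
    (σ.hom ≫ inv ((H i).map (((t).truncLTι (i + 1)).app K)) ≫ (H i).map (((t).truncGEπ i).app X₁))
  have h0 : θ ≫ ((t).truncGEδLT i).app X₁ = 0 := by
    rcases lt_or_eq_of_le hai with hlt | heq
    · refine vanish K hExt i (i - 1 - a).toNat a M inferInstance ?_ (by omega) (fun j => ?_) _
      · exact (t).isLE_of_le _ (i - 1) _ (by omega)
      · by_cases hj : j ≤ i - 1
        · right
          have z1 : IsZero ((H (j - 1)).obj Y) := isZero_of_isGE _ i _ (by omega)
          have z2 : IsZero ((H j).obj Y) := isZero_of_isGE _ i _ (by omega)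
          have : Mono ((H j).map (((t).truncLTι i).app X₁)) :=
            (HomologySequence.mono_homologyMap_mor₁_iff _ hS (j - 1) j (by omega)).2 (z1.eq_of_src _ _)
          have : Epi ((H j).map (((t).truncLTι i).app X₁)) :=
            (HomologySequence.epi_homologyMap_mor₁_iff _ hS j).2 (z2.eq_of_tgt _ _)
          have := isIso_of_mono_of_epi ((H j).map (((t).truncLTι i).app X₁))
          haveI := hK j (by omega)
          exact ⟨asIso ((H j).map (((t).truncLTι i).app X₁)) ≪≫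
            asIso ((H j).map (((t).truncLTι (i + 1)).app K))⟩
        · exact Or.inl (isZero_of_isLE _ (i - 1) _ (by omega))
    · subst heq
      exact ((shiftFunctor (DerivedCategory A) (1 : ℤ)).map_isZero
        ((t).isZero_truncLT_obj_of_isGE a X₁)).eq_of_tgt _ _
  obtain ⟨φ, hφ⟩ : ∃ φ : (Sg i).obj ((H i).obj K) ⟶ X₁, θ = φ ≫ ((t).truncGEπ i).app X₁ :=
    Triangle.coyoneda_exact₃ _ hS θ h0
  refine ⟨φ ≫ ((t).truncLTι (i + 1)).app K, ?_⟩
  have e : (H i).map φ = σ.hom ≫ inv ((H i).map (((t).truncLTι (i + 1)).app K)) := by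
    rw [← cancel_mono ((H i).map (((t).truncGEπ i).app X₁)), ← Functor.map_comp, ← hφ, hθ, assoc]
  rw [Functor.map_comp, e, assoc, IsIso.inv_hom_id, comp_id]
  infer_instance

theorem exists_iso_biproduct (K : DerivedCategory A) (a b : ℤ) [K.IsGE a] [K.IsLE b]
    (hExt : ∀ (i j : ℤ) (p : ℕ), j < i → 2 ≤ p →
      ∀ f : (Sg 0).obj ((H i).obj K) ⟶ ((Sg 0).obj ((H j).obj K))⟦(p : ℤ)⟧, f = 0)
    [HasBiproduct (fun i : Finset.Icc a b => (Sg (i : ℤ)).obj ((H (i : ℤ)).obj K))] :
    Nonempty (K ≅ ⨁ (fun i : Finset.Icc a b => (Sg (i : ℤ)).obj ((H (i : ℤ)).obj K))) := by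
  classical
  choose φ hφ using fun i : Finset.Icc a b =>
    exists_component K hExt a i (Finset.mem_Icc.1 i.2).1
  let F : Finset.Icc a b → DerivedCategory A := fun i => (Sg (i : ℤ)).obj ((H (i : ℤ)).obj K)
  let Φ : ⨁ F ⟶ K := biproduct.desc φ
  suffices IsIso Φ from ⟨(asIso Φ).symm⟩
  rw [DerivedCategory.isIso_iff]
  intro n
  have hzero : ∀ i : Finset.Icc a b, (i : ℤ) ≠ n → IsZero ((H n).obj (F i)) := fun i hi => by
    rcases lt_or_gt_of_ne hi with hlt | hgt
    · exact isZero_of_isLE _ (i : ℤ) _ hlt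
    · exact isZero_of_isGE _ (i : ℤ) _ hgt
  have tot : (∑ i, (H n).map (biproduct.π F i) ≫ (H n).map (biproduct.ι F i)) = 𝟙 _ := by
    simp only [← Functor.map_comp, ← Functor.map_sum, biproduct.total, CategoryTheory.Functor.map_id]
  by_cases hn : n ∈ Finset.Icc a b
  · have hι : IsIso ((H n).map (biproduct.ι F ⟨n, hn⟩)) := by
      refine ⟨(H n).map (biproduct.π F ⟨n, hn⟩), ?_, ?_⟩
      · rw [← Functor.map_comp, biproduct.ι_π_self, CategoryTheory.Functor.map_id]
      · rw [Finset.sum_eq_single (⟨n, hn⟩ : Finset.Icc a b)] at tot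
        · exact tot
        · intro i _ hi
          rw [(hzero i fun he => hi (Subtype.ext he)).eq_of_src ((H n).map (biproduct.ι F i)) 0,
            comp_zero]
        · exact fun h => absurd (Finset.mem_univ _) h
    have h2 : IsIso ((H n).map (biproduct.ι F ⟨n, hn⟩) ≫ (H n).map Φ) := by
      rw [← Functor.map_comp, biproduct.ι_desc]
      exact hφ ⟨n, hn⟩
    exact IsIso.of_isIso_comp_left ((H n).map (biproduct.ι F ⟨n, hn⟩)) _
  · have hK : IsZero ((H n).obj K) := by
      rw [Finset.mem_Icc, not_and_or, not_le, not_le] at hn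
      rcases hn with hn | hn
      · exact isZero_of_isGE _ a _ hn
      · exact isZero_of_isLE _ b _ hn
    have hS : IsZero ((H n).obj (⨁ F)) := by
      rw [IsZero.iff_id_eq_zero, ← tot]
      refine Finset.sum_eq_zero fun i _ => ?_
      rw [(hzero i (fun he => hn (he ▸ i.2))).eq_of_tgt ((H n).map (biproduct.π F i)) 0, zero_comp]
    exact ⟨0, hS.eq_of_src _ _, hK.eq_of_src _ _⟩

end CohDerLib.Splitting
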