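import Groth.Agent.CohDerLib.Acyclic
import Mathlib.Algebra.Homology.HomologicalComplexLimits

/-!
# A complex is the sequential colimit of its stupid truncations `σ_{≥ -n}`

The truncations are realised as kernels of idempotents, so that all their structure maps are
determined by the monomorphisms into the complex.
-/

universe v v' u u'

open CategoryTheory CategoryTheory.Limits

namespace Groth.Agent.CohDerLib.StupidTower

variable {A : Type u} [Category.{v} A] [Abelian A] (C : CochainComplex A ℤ)

/-- zero in degrees `≥ -n`, the identity below -/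
def e (n : ℕ) (m : ℤ) : C.X m ⟶ C.X m := if -(n : ℤ) ≤ m then 0 else 𝟙 _

/-- the terms -/
noncomputable def obj (n : ℕ) (m : ℤ) : A := kernel (e C n m)

/-- the inclusions -/
noncomputable def ι (n : ℕ) (m : ℤ) : obj C n m ⟶ C.X m := kernel.ι (e C n m)

instance (n : ℕ) (m : ℤ) : Mono (ι C n m) := inferInstanceAs (Mono (kernel.ι _))

variable {C} in
lemma e_eq_zero {n : ℕ} {m : ℤ} (h : -(n : ℤ) ≤ m) : e C n m = 0 := if_pos h

variable {C} in
lemma ι_eq_zero {n : ℕ} {m : ℤ} (h : ¬-(n : ℤ) ≤ m) : ι C n m = 0 :=
  (Category.comp_id _).symm.trans ((congrArg (ι C n m ≫ ·) (if_neg h : e C n m = 𝟙 _)).symm.trans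
    (kernel.condition _))

variable {C} in
lemma isZero_obj {n : ℕ} {m : ℤ} (h : ¬-(n : ℤ) ≤ m) : IsZero (obj C n m) :=
  (IsZero.iff_id_eq_zero _).2 ((cancel_mono (ι C n m)).1 (by simp [ι_eq_zero h]))

variable {C} in
lemma isIso_ι {n : ℕ} {m : ℤ} (h : -(n : ℤ) ≤ m) : IsIso (ι C n m) := by
  refine ⟨kernel.lift _ (𝟙 _) (by rw [e_eq_zero h, comp_zero]), ?_, kernel.lift_ι _ _ _⟩
  rw [← cancel_mono (ι C n m), Category.assoc]
  erw [kernel.lift_ι]
  rw [Category.comp_id, Category.id_comp]

/-- the truncation -/
noncomputable def trunc (n : ℕ) : CochainComplex A ℤ where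
  X := obj C n
  d i j := kernel.lift _ (ι C n i ≫ C.d i j) (by
    by_cases h : -(n : ℤ) ≤ j
    · rw [e_eq_zero h, comp_zero]
    · by_cases hij : (ComplexShape.up ℤ).Rel i j
      · have hij' : i + 1 = j := hij
        rw [ι_eq_zero (show ¬-(n : ℤ) ≤ i by omega), zero_comp, zero_comp]
      · rw [C.shape i j hij, comp_zero, zero_comp])
  shape i j hij := (cancel_mono (ι C n j)).1 (by
    erw [kernel.lift_ι]
    rw [C.shape i j hij, comp_zero, zero_comp])
  d_comp_d' i j k _ _ := (cancel_mono (ι C n k)).1 (by
    rw [Category.assoc]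
    erw [kernel.lift_ι, kernel.lift_ι_assoc]
    rw [Category.assoc, C.d_comp_d, comp_zero, zero_comp])

/-- the inclusion into the complex -/
noncomputable def toComplex (n : ℕ) : trunc C n ⟶ C where
  f := ι C n
  comm' i j _ := (kernel.lift_ι _ _ _).symm

/-- the transition maps -/
noncomputable def transition {n n' : ℕ} (h : n ≤ n') : trunc C n ⟶ trunc C n' where
  f m := kernel.lift _ (ι C n m) (by
    by_cases hm : -(n : ℤ) ≤ m
    · rw [e_eq_zero (show -(n' : ℤ) ≤ m by omega), comp_zero]
    · rw [ι_eq_zero hm]
      exact zero_comp)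
  comm' i j _ := (cancel_mono (ι C n' j)).1 (by
    dsimp [trunc]
    rw [Category.assoc, Category.assoc]
    erw [kernel.lift_ι, kernel.lift_ι, kernel.lift_ι_assoc, kernel.lift_ι]
    )

@[reassoc (attr := simp)]
lemma transition_ι {n n' : ℕ} (h : n ≤ n') (m : ℤ) :
    (transition C h).f m ≫ ι C n' m = ι C n m := kernel.lift_ι _ _ _

/-- the tower -/
noncomputable def tower : ℕ ⥤ CochainComplex A ℤ where
  obj := trunc C
  map h := transition C h.le
  map_id n := HomologicalComplex.hom_ext _ _ fun m => (cancel_mono (ι C n m)).1 (by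
    erw [transition_ι, Category.id_comp])
  map_comp {a b c} f g := HomologicalComplex.hom_ext _ _ fun m => (cancel_mono (ι C c m)).1 (by
    refine (transition_ι C _ m).trans ?_
    refine (transition_ι C f.le m).symm.trans ?_
    refine (congrArg ((transition C f.le).f m ≫ ·) (transition_ι C g.le m)).symm.trans ?_
    exact (Category.assoc _ _ _).symm)

/-- the cocone -/
noncomputable def cocone : Cocone (tower C) where
  pt := C
  ι :=
    { app := toComplex C
      naturality := fun a b f => HomologicalComplex.hom_ext _ _ fun m => by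
        dsimp [tower]
        rw [Category.comp_id]
        exact transition_ι C f.le m }

/-- the inverse of the inclusion in high degrees -/
noncomputable def invι (m : ℤ) : C.X m ⟶ obj C (-m).toNat m :=
  (asIso' (ι C (-m).toNat m) (isIso_ι (by omega))).inv
where
  asIso' {X Y : A} (f : X ⟶ Y) (h : IsIso f) : X ≅ Y := @asIso _ _ _ _ f h

@[reassoc]
lemma invι_ι (m : ℤ) : invι C m ≫ ι C (-m).toNat m = 𝟙 _ := Iso.inv_hom_id _

/-- it is a colimit -/
noncomputable def isColimit : IsColimit (cocone C) :=
  HomologicalComplex.isColimitOfEval _ _ fun m =>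
    { desc := fun s => invι C m ≫ s.ι.app (-m).toNat
      fac := fun s n => by
        have h₁ : (transition C (le_max_left n (-m).toNat)).f m ≫ s.ι.app (max n (-m).toNat) =
            s.ι.app n := s.w (homOfLE (le_max_left n (-m).toNat))
        have h₂ : (transition C (le_max_right n (-m).toNat)).f m ≫ s.ι.app (max n (-m).toNat) =
            s.ι.app (-m).toNat := s.w (homOfLE (le_max_right n (-m).toNat))
        show ι C n m ≫ invι C m ≫ s.ι.app (-m).toNat = s.ι.app n
        have key : ι C n m ≫ invι C m ≫ (transition C (le_max_right n (-m).toNat)).f m =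
            (transition C (le_max_left n (-m).toNat)).f m := by
          refine (cancel_mono (ι C (max n (-m).toNat) m)).1 ?_
          refine Eq.trans ?_ (transition_ι C _ m).symm
          refine (Category.assoc _ _ _).trans ?_
          refine (congrArg (ι C n m ≫ ·) ((Category.assoc _ _ _).trans
            ((congrArg (invι C m ≫ ·) (transition_ι C _ m)).trans (invι_ι C m)))).trans ?_
          exact Category.comp_id _
        refine (congrArg (ι C n m ≫ ·) (congrArg (invι C m ≫ ·) h₂.symm)).trans ?_
        refine Eq.trans ?_ h₁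
        refine (congrArg (ι C n m ≫ ·) (Category.assoc _ _ _).symm).trans ?_
        refine (Category.assoc _ _ _).symm.trans ?_
        exact congrArg (· ≫ s.ι.app (max n (-m).toNat)) key
      uniq := fun s g hg => by
        refine Eq.trans ?_ (congrArg (invι C m ≫ ·) (hg (-m).toNat))
        exact ((invι_ι_assoc C m g).trans rfl).symm }

instance (n : ℕ) : (trunc C n).IsStrictlyGE (-(n : ℤ)) :=
  (CochainComplex.isStrictlyGE_iff _ _).2 fun _ hi => isZero_obj (by omega)

open Groth.Agent.CohDerLib.Acyclic in
lemma acy_trunc [HasInjectiveResolutions A] {B : Type u'} [Category.{v'} B] [Abelian B]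
    {F : A ⥤ B} [F.Additive] (hC : ∀ m, Acy F (C.X m)) (n : ℕ) (m : ℤ) :
    Acy F ((trunc C n).X m) := by
  by_cases h : -(n : ℤ) ≤ m
  · have := isIso_ι (C := C) h
    exact acy_of_iso (asIso (ι C n m)).symm (hC m)
  · exact fun i _ => (F.rightDerived i).map_isZero (isZero_obj h)

end Groth.Agent.CohDerLib.StupidTower
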