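import Groth.Agent.SubElem.Basic
import Groth.Agent.ARLib.Sub
import Mathlib.CategoryTheory.Simple
import Mathlib.Order.JordanHolder
import Mathlib.Order.OrderIsoNat

/-!
# The modular lattice of subobjects in an abelian category; composition series
-/

universe v u

open CategoryTheory CategoryTheory.Limits

namespace Groth.Agent.CohDerLib.SubobjJH

open Groth.Agent.SubElem

variable {A : Type u} [Category.{v} A] [Abelian A] {X : A}

instance : IsModularLattice (Subobject X) where
  sup_inf_le_assoc_of_le {S} T U hSU := le_iff.2 fun W w hw => by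
    obtain ⟨h1, h2⟩ := (inf_factors_iff w).1 hw
    obtain ⟨W', p, hp, a, b, ha, hb, e⟩ := (sup_factors_iff S T w).1 h1
    refine (sup_factors_iff _ _ w).2 ⟨W', p, hp, a, b, ha, (inf_factors_iff b).2 ⟨hb, ?_⟩, e⟩
    have hb' : b = p ≫ w - a := by rw [e]; abel
    rw [hb']
    exact factors_sub (comp_factors p h2) (Subobject.factors_of_le a hSU ha)

/-- A map into `B` dies in `B/A` iff it lies in `A`. -/
theorem comp_π_eq_zero_iff {S T : Subobject X} (h : S ≤ T) {W : A} (w : W ⟶ (T : A)) :
    w ≫ cokernel.π (Subobject.ofLE S T h) = 0 ↔ S.Factors (w ≫ T.arrow) := by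
  constructor
  · intro hw
    refine (factors_iff_exists _).2 ⟨Abelian.monoLift (Subobject.ofLE S T h) w hw, ?_⟩
    rw [← Subobject.ofLE_arrow h, Abelian.monoLift_comp_assoc]
  · intro hw
    obtain ⟨s, hs⟩ := (factors_iff_exists _).1 hw
    have : w = s ≫ Subobject.ofLE S T h := by
      rw [← cancel_mono T.arrow, Category.assoc, Subobject.ofLE_arrow, hs]
    rw [this, Category.assoc, cokernel.condition, comp_zero]

theorem covBy_of_simple {S T : Subobject X} (h : S ≤ T)
    [Simple (cokernel (Subobject.ofLE S T h))] : S ⋖ T := by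
  set π := cokernel.π (Subobject.ofLE S T h) with hπ
  refine ⟨lt_of_le_of_ne h ?_, ?_⟩
  · intro e
    apply Simple.not_isZero (cokernel (Subobject.ofLE S T h))
    rw [IsZero.iff_id_eq_zero, ← cancel_epi (cokernel.π (Subobject.ofLE S T h)), comp_zero,
      Category.comp_id]
    have := (comp_π_eq_zero_iff h (𝟙 _)).2 (by rw [Category.id_comp]; exact e ▸ factors_arrow T)
    simpa using this
  · intro U hSU hUT
    by_cases h0 : Subobject.ofLE U T hUT.le ≫ π = 0
    · refine absurd (le_iff.2 fun W w hw => ?_) hSU.not_ge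
      obtain ⟨u, rfl⟩ := (factors_iff_exists _).1 hw
      have := (comp_π_eq_zero_iff h (u ≫ Subobject.ofLE U T hUT.le)).1
        (by rw [Category.assoc, ← hπ, h0, comp_zero])
      simpa using this
    · have := epi_of_nonzero_to_simple h0
      refine absurd (le_iff.2 fun W w hw => ?_) hUT.not_ge
      obtain ⟨t, rfl⟩ := (factors_iff_exists _).1 hw
      obtain ⟨W', p, hp, u, hu⟩ :=
        surjective_up_to_refinements_of_epi (Subobject.ofLE U T hUT.le ≫ π) (t ≫ π)
      have := (comp_π_eq_zero_iff h (p ≫ t - u ≫ Subobject.ofLE U T hUT.le)).1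
        (by rw [← hπ, Preadditive.sub_comp, Category.assoc, hu, Category.assoc, sub_self])
      refine factors_of_epi_comp p _ ?_
      have h2 := factors_add (Subobject.factors_of_le _ hSU.le this)
        ((factors_iff_exists _).2 ⟨u, rfl⟩)
      simpa [Preadditive.sub_comp] using h2

theorem simple_of_covBy {S T : Subobject X} (h : S ⋖ T) :
    Simple (cokernel (Subobject.ofLE S T h.le)) := by
  set π := cokernel.π (Subobject.ofLE S T h.le) with hπ
  refine ⟨fun {Y} i _ => ⟨fun hi h0 => ?_, fun h0 => ?_⟩⟩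
  · subst h0
    have h1 : π = 0 := by
      rw [← Category.comp_id π, ← IsIso.inv_hom_id (0 : Y ⟶ _), comp_zero, comp_zero]
    refine h.lt.not_ge (le_iff.2 fun W w hw => ?_)
    obtain ⟨t, rfl⟩ := (factors_iff_exists _).1 hw
    exact (comp_π_eq_zero_iff h.le t).1 (by rw [← hπ, h1, comp_zero])
  · let U : Subobject X := Subobject.mk (pullback.fst π i ≫ T.arrow)
    have hUT : U ≤ T := Subobject.mk_le_of_comm (pullback.fst π i) rfl
    have hSU : S ≤ U := Subobject.le_mk_of_comm
      (pullback.lift (Subobject.ofLE S T h.le) 0 (by rw [hπ, cokernel.condition, zero_comp]))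
      (by rw [← Category.assoc, pullback.lift_fst, Subobject.ofLE_arrow])
    rcases h.eq_or_eq hSU hUT with e | e
    · exfalso
      refine h0 ?_
      obtain ⟨W, p, hp, t, ht⟩ := surjective_up_to_refinements_of_epi π i
      have hmem : U.Factors (t ≫ T.arrow) :=
        (Subobject.mk_factors_iff _ _).2 ⟨pullback.lift t p ht.symm, pullback.lift_fst_assoc _ _ _ _⟩
      rw [e, ← comp_π_eq_zero_iff h.le, ← hπ, ← ht] at hmem
      rwa [← cancel_epi p, comp_zero]
    · obtain ⟨g, hg⟩ : ∃ g : (T : A) ⟶ pullback π i,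
          g ≫ pullback.fst π i ≫ T.arrow = T.arrow :=
        (Subobject.mk_factors_iff _ _).1 (e.symm ▸ factors_arrow T : U.Factors T.arrow)
      have hg' : g ≫ pullback.fst π i = 𝟙 _ := by
        rw [← cancel_mono T.arrow, Category.assoc, hg, Category.id_comp]
      have : π = (g ≫ pullback.snd π i) ≫ i := by
        rw [Category.assoc, ← pullback.condition, ← Category.assoc, hg', Category.id_comp]
      have : Epi i := epi_of_epi_fac (h := π) this.symm
      exact isIso_of_mono_of_epi i

/-- quotients attached to an arbitrary pair -/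
noncomputable abbrev Q (p : Subobject X × Subobject X) : A :=
  cokernel (Subobject.ofLE (p.1 ⊓ p.2) p.2 inf_le_right)

theorem nonempty_iso_Q {S T : Subobject X} (h : S ≤ T) :
    Nonempty (cokernel (Subobject.ofLE S T h) ≅ Q (S, T)) := by
  have e : S ⊓ T = S := inf_eq_left.2 h
  have key : ∀ (U : Subobject X) (hU : U ≤ T), U = S →
      Nonempty (cokernel (Subobject.ofLE S T h) ≅ cokernel (Subobject.ofLE U T hU)) := by
    rintro U hU rfl; exact ⟨Iso.refl _⟩
  exact key _ _ e

theorem second_iso (S T : Subobject X) :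
    Nonempty (cokernel (Subobject.ofLE (S ⊓ T) T inf_le_right) ≅
      cokernel (Subobject.ofLE S (S ⊔ T) le_sup_left)) := by
  let f : cokernel (Subobject.ofLE (S ⊓ T) T inf_le_right) ⟶
      cokernel (Subobject.ofLE S (S ⊔ T) le_sup_left) :=
    cokernel.map _ _ (Subobject.ofLE _ _ inf_le_left) (Subobject.ofLE _ _ le_sup_right)
      (by simp)
  have hf : cokernel.π (Subobject.ofLE (S ⊓ T) T inf_le_right) ≫ f =
      Subobject.ofLE _ _ le_sup_right ≫ cokernel.π _ := cokernel.π_desc _ _ _
  have : Mono f := by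
    refine Preadditive.mono_of_cancel_zero _ fun {W} w hw => ?_
    obtain ⟨W', p, hp, t, ht⟩ := surjective_up_to_refinements_of_epi
      (cokernel.π (Subobject.ofLE (S ⊓ T) T inf_le_right)) w
    have h1 : (t ≫ Subobject.ofLE T (S ⊔ T) le_sup_right) ≫
        cokernel.π (Subobject.ofLE S (S ⊔ T) le_sup_left) = 0 := by
      rw [Category.assoc, ← hf, ← reassoc_of% ht, hw, comp_zero]
    have h2 := (comp_π_eq_zero_iff _ _).1 h1
    rw [Category.assoc, Subobject.ofLE_arrow] at h2
    rw [← cancel_epi p, comp_zero, ht, comp_π_eq_zero_iff, inf_factors_iff]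
    exact ⟨h2, (factors_iff_exists _).2 ⟨t, rfl⟩⟩
  have : Epi f := by
    refine Preadditive.epi_of_cancel_zero _ fun {W} w hw => ?_
    rw [← cancel_epi (cokernel.π (Subobject.ofLE S (S ⊔ T) le_sup_left)), comp_zero]
    set ψ := cokernel.π (Subobject.ofLE S (S ⊔ T) le_sup_left) ≫ w with hψ
    have hT : Subobject.ofLE T (S ⊔ T) le_sup_right ≫ ψ = 0 := by
      rw [hψ, ← Category.assoc, ← hf, Category.assoc, hw, comp_zero]
    have hS : Subobject.ofLE S (S ⊔ T) le_sup_left ≫ ψ = 0 := by
      rw [hψ, cokernel.condition_assoc, zero_comp]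
    obtain ⟨W', p, hp, a, b, ha, hb, e⟩ := (sup_factors_iff S T _).1 (factors_arrow (S ⊔ T))
    obtain ⟨a', rfl⟩ := (factors_iff_exists _).1 ha
    obtain ⟨b', rfl⟩ := (factors_iff_exists _).1 hb
    have : p = a' ≫ Subobject.ofLE S (S ⊔ T) le_sup_left +
        b' ≫ Subobject.ofLE T (S ⊔ T) le_sup_right := by
      rw [← cancel_mono (S ⊔ T).arrow, e, Preadditive.add_comp]; simp
    rw [← cancel_epi p, comp_zero, this, Preadditive.add_comp, Category.assoc, Category.assoc,
      hS, hT, comp_zero, comp_zero, add_zero]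
  have := isIso_of_mono_of_epi f
  exact ⟨asIso f⟩

theorem nonempty_iso_of_iso {p q : Subobject X × Subobject X}
    (h : JordanHolderLattice.Iso p q) : Nonempty (Q p ≅ Q q) := by
  refine h.rel (fun p q => Nonempty (Q p ≅ Q q)) ⟨Iso.refl _⟩ (fun ⟨e⟩ => ⟨e.symm⟩)
    (fun ⟨e⟩ ⟨e'⟩ => ⟨e ≪≫ e'⟩) fun {S T} _ => ?_
  obtain ⟨e⟩ := second_iso S T
  obtain ⟨e₁⟩ := nonempty_iso_Q (le_sup_left : S ≤ S ⊔ T)
  obtain ⟨e₂⟩ := nonempty_iso_Q (inf_le_right : S ⊓ T ≤ T)
  exact ⟨e₁.symm ≪≫ e.symm ≪≫ e₂⟩

theorem isArtinian_isNoetherian_of_simple {Y : A} [Simple Y] :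
    IsArtinianObject Y ∧ IsNoetherianObject Y := by
  have : Finite (Subobject Y) := by
    classical
    refine Finite.of_injective (fun S => decide (S = ⊥)) fun S T hST => ?_
    rcases IsSimpleOrder.eq_bot_or_eq_top S with rfl | rfl <;>
      rcases IsSimpleOrder.eq_bot_or_eq_top T with rfl | rfl <;>
      simp_all [eq_comm]
  exact ⟨⟨(Finite.to_wellFoundedLT : WellFoundedLT (Subobject Y))⟩,
    ⟨(Finite.to_wellFoundedGT : WellFoundedGT (Subobject Y))⟩⟩

theorem isArtinian_isNoetherian_of_series {n : ℕ} (F : Fin (n + 1) → Subobject X)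
    (hF : Monotone F) (h0 : F 0 = ⊥)
    (hs : ∀ i : Fin n, Simple (cokernel (Subobject.ofLE (F (Fin.castSucc i)) (F (Fin.succ i))
      (hF (Fin.castSucc_lt_succ (i := i)).le)))) (j : Fin (n + 1)) :
    IsArtinianObject (F j : A) ∧ IsNoetherianObject (F j : A) := by
  induction j using Fin.induction with
  | zero =>
    have hz : IsZero ((F 0 : Subobject X) : A) := by
      rw [h0]
      exact (isZero_zero A).of_iso Subobject.botCoeIsoZero
    exact ⟨isArtinianObject_of_isZero hz, isNoetherianObject_of_isZero hz⟩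
  | succ i ih =>
    obtain ⟨h1, h2⟩ := ih
    have := hs i
    obtain ⟨h3, h4⟩ := isArtinian_isNoetherian_of_simple
      (Y := cokernel (Subobject.ofLE (F (Fin.castSucc i)) (F (Fin.succ i))
        (hF (Fin.castSucc_lt_succ (i := i)).le)))
    have hex := ShortComplex.exact_of_g_is_cokernel
      (ShortComplex.mk _ _ (cokernel.condition
        (Subobject.ofLE (F (Fin.castSucc i)) (F (Fin.succ i))
          (hF (Fin.castSucc_lt_succ (i := i)).le)))) (cokernelIsCokernel _)
    exact ⟨ARLib.isArtinianObject_of_exact _ _ hex, ARLib.isNoetherianObject_of_exact _ _ hex⟩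

end Groth.Agent.CohDerLib.SubobjJH
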