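import Mathlib.Algebra.Homology.HomologicalComplexLimits
import Mathlib.Algebra.Homology.ShortComplex.Ab
import Mathlib.Algebra.Homology.ShortComplex.HomologicalComplex
import Mathlib.Algebra.Category.Grp.Limits
import Mathlib.CategoryTheory.Limits.Types.Limits
import Mathlib.Order.WellFounded

/-!
# Acyclicity of limits of well-ordered systems of acyclic complexes with surjective liftings
-/

universe w

open CategoryTheory CategoryTheory.Limits Opposite

namespace Groth.Agent.CohDerLib.WellOrderLim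

variable {I : Type w} [LinearOrder I] (K : Iᵒᵖ ⥤ CochainComplex AddCommGrpCat.{w} ℤ)

/-- components -/
abbrev Obj (β : I) (i : ℤ) : Type w := (K.obj (op β)).X i

/-- restriction -/
noncomputable def res {γ β : I} (h : γ ≤ β) (i : ℤ) : Obj K β i →+ Obj K γ i :=
  ((K.map (homOfLE h).op).f i).hom

lemma res_self {β : I} (i : ℤ) (x : Obj K β i) : res K (le_refl β) i x = x := by
  have : K.map (homOfLE (le_refl β)).op = 𝟙 _ := by
    rw [show (homOfLE (le_refl β)).op = 𝟙 (op β) from rfl]; exact K.map_id _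
  simp [res, this]

lemma res_res {δ γ β : I} (h : δ ≤ γ) (h' : γ ≤ β) (i : ℤ) (x : Obj K β i) :
    res K h i (res K h' i x) = res K (h.trans h') i x := by
  have : K.map (homOfLE (h.trans h')).op = K.map (homOfLE h').op ≫ K.map (homOfLE h).op := by
    rw [← K.map_comp]; rfl
  simp [res, this]

/-- differential -/
noncomputable def dd (β : I) (i j : ℤ) : Obj K β i →+ Obj K β j := ((K.obj (op β)).d i j).hom

lemma res_dd {γ β : I} (h : γ ≤ β) (i j : ℤ) (x : Obj K β i) :
    res K h j (dd K β i j x) = dd K γ i j (res K h i x) := by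
  have := (K.map (homOfLE h).op).comm i j
  exact (ConcreteCategory.congr_hom this x).symm

lemma dd_dd (β : I) (i j k : ℤ) (x : Obj K β i) : dd K β j k (dd K β i j x) = 0 :=
  ConcreteCategory.congr_hom ((K.obj (op β)).d_comp_d i j k) x

/-- compatibility of a family on a set of indices -/
def Compat (s : Set I) (i : ℤ) (x : ∀ β, Obj K β i) : Prop :=
  ∀ γ β, γ ∈ s → β ∈ s → ∀ h : γ ≤ β, res K h i (x β) = x γ

/-- compatible cycles on `s` are boundaries of compatible families -/
def Good (s : Set I) : Prop :=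
  ∀ (i j : ℤ), i + 1 = j → ∀ z : ∀ β, Obj K β j, Compat K s j z →
    (∀ β ∈ s, dd K β j (j + 1) (z β) = 0) →
    ∃ x : ∀ β, Obj K β i, Compat K s i x ∧ ∀ β ∈ s, dd K β i j (x β) = z β

variable (hac : ∀ (β : I) (n : ℤ), (K.obj (op β)).ExactAt n)
  (hsurj : ∀ (β : I) (i : ℤ) (x : ∀ γ, Obj K γ i), Compat K (Set.Iio β) i x →
    ∃ y : Obj K β i, ∀ γ (h : γ < β), res K h.le i y = x γ)

include hac in
lemma exact_elem (β : I) (i j : ℤ) (h : i + 1 = j) (z : Obj K β j)
    (hz : dd K β j (j + 1) z = 0) : ∃ x, dd K β i j x = z := by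
  have := ((K.obj (op β)).exactAt_iff' i j (j + 1)
    (by simp; omega) (by simp)).1 (hac β j)
  exact (ShortComplex.ab_exact_iff _).1 this z hz

include hac hsurj in
lemma step {β : I} (hβ : Good K (Set.Iio β)) (i j : ℤ) (hij : i + 1 = j)
    (z : ∀ γ, Obj K γ j) (hz : ∀ γ < β, ∀ h : γ ≤ β, res K h j (z β) = z γ)
    (hzd : dd K β j (j + 1) (z β) = 0)
    (x : ∀ γ, Obj K γ i) (hx : Compat K (Set.Iio β) i x)
    (hxd : ∀ γ < β, dd K γ i j (x γ) = z γ) :
    ∃ y : Obj K β i, dd K β i j y = z β ∧ ∀ γ (h : γ < β), res K h.le i y = x γ := by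
  obtain ⟨y, hy⟩ := hsurj β i x hx
  obtain ⟨w, hw⟩ := exact_elem K hac β i j hij (z β - dd K β i j y)
    (by rw [map_sub, hzd, dd_dd, sub_zero])
  classical
  let wf : ∀ γ, Obj K γ i := fun γ => if h : γ ≤ β then res K h i w else 0
  have hwf : ∀ γ (h : γ ≤ β), wf γ = res K h i w := fun γ h => dif_pos h
  obtain ⟨u, hu, hud⟩ := hβ (i - 1) i (by omega) wf
    (fun δ γ hδ hγ h => by rw [hwf γ (le_of_lt hγ), hwf δ (le_of_lt hδ), res_res])
    (fun γ hγ => by
      rw [hwf γ (le_of_lt hγ), ← res_dd, hij, hw, map_sub, res_dd, hy γ hγ, hxd γ hγ,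
        hz γ hγ, sub_self])
  obtain ⟨v, hv⟩ := hsurj β (i - 1) u hu
  refine ⟨y + (w - dd K β (i - 1) i v), ?_, fun γ h => ?_⟩
  · rw [map_add, map_sub, dd_dd, sub_zero, hw]; abel
  · rw [map_add, map_sub, hy γ h, res_dd, hv γ h, hud γ h, hwf γ h.le, sub_self, add_zero]

variable [WellFoundedLT I]

include hac hsurj in
lemma good_of_below (s : Set I) (hs : IsLowerSet s) (hb : ∀ β ∈ s, Good K (Set.Iio β)) :
    Good K s := by
  intro i j hij z hz hzd
  classical
  let P : ∀ β, ((γ : I) → γ < β → Obj K γ i) → Obj K β i → Prop := fun β x y =>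
    dd K β i j y = z β ∧ ∀ γ (h : γ < β), res K h.le i y = x γ h
  let x : ∀ β, Obj K β i :=
    wellFounded_lt.fix (fun β x => Classical.epsilon (P β x))
  have hx : ∀ β, x β = Classical.epsilon (P β (fun γ _ => x γ)) := fun β =>
    wellFounded_lt.fix_eq _ β
  have key : ∀ β, β ∈ s → P β (fun γ _ => x γ) (x β) := by
    intro β
    induction β using WellFoundedLT.induction with
    | ind β ih =>
      intro hβ
      rw [hx β]
      refine Classical.epsilon_spec (p := P β (fun γ _ => x γ)) ?_
      refine step K hac hsurj (hb β hβ) i j hij z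
        (fun γ hγ h => hz γ β (hs h hβ) hβ h) (hzd β hβ) x ?_
        (fun γ hγ => (ih γ hγ (hs (le_of_lt hγ) hβ)).1)
      intro δ γ hδ hγ h
      rcases h.lt_or_eq with h' | h'
      · exact (ih γ hγ (hs (le_of_lt hγ) hβ)).2 δ h'
      · subst h'; exact res_self K i _
  refine ⟨x, fun γ β hγ hβ h => ?_, fun β hβ => (key β hβ).1⟩
  rcases h.lt_or_eq with h' | h'
  · exact (key β hβ).2 γ h'
  · subst h'; exact res_self K i _

include hac hsurj in
lemma good_univ : Good K Set.univ := by
  refine good_of_below K hac hsurj _ isLowerSet_univ fun β _ => ?_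
  induction β using WellFoundedLT.induction with
  | ind β ih => exact good_of_below K hac hsurj _ (isLowerSet_Iio β) fun γ hγ => ih γ hγ trivial

include hac hsurj in
theorem limit_exactAt (n : ℤ) : (limit K).ExactAt n := by
  rw [(limit K).exactAt_iff' (n - 1) n (n + 1) (by simp) (by simp), ShortComplex.ab_exact_iff]
  intro a ha
  have hnat : ∀ (γ β : I) (h : γ ≤ β),
      limit.π K (op β) ≫ K.map (homOfLE h).op = limit.π K (op γ) := fun γ β h => limit.w K _
  let z : ∀ β, Obj K β n := fun β => ((limit.π K (op β)).f n).hom a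
  obtain ⟨x, hx, hxd⟩ := good_univ K hac hsurj (n - 1) n (by omega) z
    (fun γ β _ _ h => ConcreteCategory.congr_hom (congr_arg (fun φ => φ.f n) (hnat γ β h)) a)
    (fun β _ => by
      have := ConcreteCategory.congr_hom ((limit.π K (op β)).comm n (n + 1)) a
      refine this.trans ?_
      show ((limit.π K (op β)).f (n + 1)).hom (((limit K).d n (n + 1)).hom a) = 0
      have ha' : ((limit K).d n (n + 1)).hom a = 0 := ha
      rw [ha', map_zero])
  let G : CochainComplex AddCommGrpCat.{w} ℤ ⥤ Type w :=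
    HomologicalComplex.eval AddCommGrpCat.{w} (ComplexShape.up ℤ) (n - 1) ⋙
      forget AddCommGrpCat.{w}
  have hlim : IsLimit (G.mapCone (limit.cone K)) := isLimitOfPreserves G (limit.isLimit K)
  let sec : (K ⋙ G).sections :=
    ⟨fun β => x β.unop, fun {β γ} f => hx γ.unop β.unop trivial trivial (leOfHom f.unop)⟩
  let b := (Types.isLimitEquivSections hlim).symm sec
  have hb : ∀ β : I, ((limit.π K (op β)).f (n - 1)).hom b = x β := fun β =>
    Types.isLimitEquivSections_symm_apply hlim sec (op β)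
  refine ⟨b, ?_⟩
  let G' : CochainComplex AddCommGrpCat.{w} ℤ ⥤ Type w :=
    HomologicalComplex.eval AddCommGrpCat.{w} (ComplexShape.up ℤ) n ⋙
      forget AddCommGrpCat.{w}
  have hlim' : IsLimit (G'.mapCone (limit.cone K)) := isLimitOfPreserves G' (limit.isLimit K)
  apply (Types.isLimitEquivSections hlim').injective
  refine Subtype.ext (funext fun β => ?_)
  show ((limit.π K β).f n).hom (((limit K).d (n - 1) n).hom b) = ((limit.π K β).f n).hom a
  have := ConcreteCategory.congr_hom ((limit.π K β).comm (n - 1) n) b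
  refine this.symm.trans ?_
  have h1 := hb β.unop
  show dd K β.unop (n - 1) n (((limit.π K (op β.unop)).f (n - 1)).hom b) = _
  rw [h1, hxd β.unop trivial]

end Groth.Agent.CohDerLib.WellOrderLim
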